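import Groth.Prelude.Def_CohB1
import Mathlib.AlgebraicGeometry.Limits
import Mathlib.AlgebraicGeometry.Morphisms.ClosedImmersion

/-!
# Subschemes of coproducts

`exists_coprod`: for `j : H' ⟶ H` and `H ≅ ∐ P`, also `H' ≅ ∐ P'` with `P' a = P a ×_H H'`.
-/

set_option autoImplicit false
universe u

open CategoryTheory CategoryTheory.Limits AlgebraicGeometry

namespace Groth.Agent.Fga.CoprodClosed

/-- Pulling back a decomposition in a coproduct. -/
theorem exists_coprod {H H' : Scheme.{u}} (j : H' ⟶ H) {ι : Type u} (P : ι → Scheme.{u}) (e : (∐ P) ≅ H) :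
    ∃ (P' : ι → Scheme.{u}) (e' : (∐ P') ≅ H') (b : ∀ a, P' a ⟶ P a),
      ∀ a, IsPullback (b a) (Limits.Sigma.ι P' a ≫ e'.hom) (Limits.Sigma.ι P a ≫ e.hom) j := by
  let q : ∀ a, P a ⟶ H := fun a => Limits.Sigma.ι P a ≫ e.hom
  let P' : ι → Scheme.{u} := fun a => pullback (q a) j
  let f : ∀ a, P' a ⟶ H' := fun a => pullback.snd (q a) j
  have hf : ∀ a, IsOpenImmersion (f a) := fun a => inferInstance
  have hcov : ⨆ a, (f a).opensRange = ⊤ := by
    rw [eq_top_iff]
    intro x _
    obtain ⟨a, y, hy⟩ := (sigmaOpenCover P).exists_eq (e.inv (j x))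
    have hy' : q a y = j x := by
      change (Limits.Sigma.ι P a ≫ e.hom) y = j x
      have : Limits.Sigma.ι P a y = e.inv (j x) := hy
      rw [Scheme.Hom.comp_apply, this, ← Scheme.Hom.comp_apply, e.inv_hom_id]
      rfl
    obtain ⟨z, -, hz⟩ := Scheme.Pullback.exists_preimage_pullback (f := q a) (g := j) y x hy'
    exact TopologicalSpace.Opens.mem_iSup.2 ⟨a, ⟨z, hz⟩⟩
  have hdisj : Pairwise (Function.onFun Disjoint fun a => (f a).opensRange) := by
    intro a b hab
    rw [Function.onFun, disjoint_iff, eq_bot_iff]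
    rintro x ⟨⟨y, hy⟩, ⟨z, hz⟩⟩
    exfalso
    have h1 : q a (pullback.fst (q a) j y) = j x := by
      rw [← Scheme.Hom.comp_apply, pullback.condition, Scheme.Hom.comp_apply]
      exact congrArg j hy
    have h2 : q b (pullback.fst (q b) j z) = j x := by
      rw [← Scheme.Hom.comp_apply, pullback.condition, Scheme.Hom.comp_apply]
      exact congrArg j hz
    have h3 : Limits.Sigma.ι P a (pullback.fst (q a) j y) = Limits.Sigma.ι P b (pullback.fst (q b) j z) := by
      have h4 := h1.trans h2.symm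
      change (Limits.Sigma.ι P a ≫ e.hom) _ = (Limits.Sigma.ι P b ≫ e.hom) _ at h4
      rw [Scheme.Hom.comp_apply, Scheme.Hom.comp_apply] at h4
      exact e.hom.homeomorph.injective h4
    have h5 := disjoint_opensRange_sigmaι P a b hab
    rw [disjoint_iff] at h5
    have h6 : Limits.Sigma.ι P a (pullback.fst (q a) j y) ∈
        (Limits.Sigma.ι P a).opensRange ⊓ (Limits.Sigma.ι P b).opensRange := ⟨⟨_, rfl⟩, ⟨_, h3.symm⟩⟩
    rw [h5] at h6
    exact h6
  obtain ⟨hc⟩ := nonempty_isColimit_cofanMk_of f hcov hdisj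
  refine ⟨P', (coproductIsCoproduct P').coconePointUniqueUpToIso hc, fun a => pullback.fst (q a) j, fun a => ?_⟩
  have h1 : Limits.Sigma.ι P' a ≫ ((coproductIsCoproduct P').coconePointUniqueUpToIso hc).hom = f a :=
    IsColimit.comp_coconePointUniqueUpToIso_hom (coproductIsCoproduct P') hc ⟨a⟩
  rw [h1]
  exact IsPullback.of_hasPullback (q a) j

/-- A closed subscheme of a disjoint union of closed subschemes of projective spaces over `S`. -/
theorem exists_coprod_closed {S H H' : Scheme.{u}} (h : H ⟶ S) (j : H' ⟶ H) [IsClosedImmersion j] {ι : Type u}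
    (P : ι → Scheme.{u}) (e : (∐ P) ≅ H) (r : ι → ℕ) (c : ∀ a, P a ⟶ CohB1.ProjSpaceOver (r a) S)
    (hc : ∀ a, IsClosedImmersion (c a) ∧
      c a ≫ CohB1.ProjSpaceOver.toBase (r a) S = Limits.Sigma.ι P a ≫ e.hom ≫ h) :
    ∃ (P' : ι → Scheme.{u}) (e' : (∐ P') ≅ H') (c' : ∀ a, P' a ⟶ CohB1.ProjSpaceOver (r a) S),
      ∀ a, IsClosedImmersion (c' a) ∧
        c' a ≫ CohB1.ProjSpaceOver.toBase (r a) S = Limits.Sigma.ι P' a ≫ e'.hom ≫ j ≫ h := by
  obtain ⟨P', e', b, hb⟩ := exists_coprod j P e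
  refine ⟨P', e', fun a => b a ≫ c a, fun a => ⟨?_, ?_⟩⟩
  · have h1 : IsClosedImmersion (b a) :=
      MorphismProperty.of_isPullback (P := @IsClosedImmersion) (hb a).flip inferInstance
    have h2 := (hc a).1
    infer_instance
  · have h3 := (hb a).w
    rw [Category.assoc, (hc a).2]
    simp only [Category.assoc] at h3 ⊢
    rw [← reassoc_of% h3]

end Groth.Agent.Fga.CoprodClosed
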