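import Groth.Agent.Fga.DVRGeom
import Groth.Agent.Flat2C.Thick

/-!
# Invertible modules on a flat scheme over a discrete valuation ring with integral special fibre

`nonempty_iso_of_generic_of_integral`: if two invertible modules agree on the generic fibre, they are isomorphic.
-/

set_option autoImplicit false
universe u

open CategoryTheory CategoryTheory.Limits AlgebraicGeometry Opposite TopologicalSpace
open Groth.Agent.Fdesc.LocGen

namespace Groth.Agent.Fga.DVRLine

open Groth.Agent.Fga.DVRGeom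

variable {V : Type u} [CommRing V] [IsDomain V] [IsDiscreteValuationRing V]
  {Y : Scheme.{u}} (p : Y ⟶ Spec (CommRingCat.of V)) {Y₀ : Scheme.{u}} {i : Y₀ ⟶ Y}
  {κ : Type u} [Field κ] [Algebra V κ] {k₀ : Y₀ ⟶ Spec (CommRingCat.of κ)}

theorem ker_algebraMap (hκ : Function.Surjective (algebraMap V κ)) {ϖ : V} (hϖ : Irreducible ϖ) :
    RingHom.ker (algebraMap V κ) = Ideal.span {ϖ} := by
  have h1 : (RingHom.ker (algebraMap V κ)).IsMaximal := RingHom.ker_isMaximal_of_surjective _ hκ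
  rw [IsLocalRing.eq_maximalIdeal h1, hϖ.maximalIdeal_eq]

theorem ker_specMap_app_top (hκ : Function.Surjective (algebraMap V κ)) {ϖ : V} (hϖ : Irreducible ϖ) :
    RingHom.ker ((Spec.map (CommRingCat.ofHom (algebraMap V κ))).app ⊤).hom =
      Ideal.span {(Scheme.ΓSpecIso (CommRingCat.of V)).inv.hom ϖ} := by
  have key : ∀ v : V, ((Spec.map (CommRingCat.ofHom (algebraMap V κ))).app ⊤).hom
      ((Scheme.ΓSpecIso (CommRingCat.of V)).inv.hom v) =
      (Scheme.ΓSpecIso (CommRingCat.of κ)).inv.hom (algebraMap V κ v) := fun v =>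
    (congrArg (fun g => g.hom v) (Scheme.ΓSpecIso_inv_naturality (CommRingCat.ofHom (algebraMap V κ)))).symm
  apply le_antisymm
  · intro x hx
    obtain ⟨v, rfl⟩ : ∃ v, (Scheme.ΓSpecIso (CommRingCat.of V)).inv.hom v = x :=
      (ConcreteCategory.bijective_of_isIso (Scheme.ΓSpecIso (CommRingCat.of V)).inv).2 x
    rw [RingHom.mem_ker, key] at hx
    have h1 : algebraMap V κ v = 0 := by
      apply (ConcreteCategory.bijective_of_isIso (Scheme.ΓSpecIso (CommRingCat.of κ)).inv).1
      exact hx.trans (map_zero _).symm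
    have h2 : v ∈ Ideal.span {ϖ} := by
      rw [← ker_algebraMap hκ hϖ]
      exact h1
    obtain ⟨w, rfl⟩ := Ideal.mem_span_singleton'.1 h2
    rw [map_mul]
    exact Ideal.mul_mem_left _ _ (Ideal.mem_span_singleton_self _)
  · rw [Ideal.span_singleton_le_iff_mem, RingHom.mem_ker, key]
    have h1 : ϖ ∈ RingHom.ker (algebraMap V κ) := by
      rw [ker_algebraMap hκ hϖ]
      exact Ideal.mem_span_singleton_self _
    rw [RingHom.mem_ker] at h1
    rw [h1, map_zero]
    rfl

include p in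
/-- The special fibre as a set. -/
theorem mem_range_iff (hκ : Function.Surjective (algebraMap V κ))
    (h : IsPullback i k₀ p (Spec.map (CommRingCat.ofHom (algebraMap V κ)))) {ϖ : V} (hϖ : Irreducible ϖ) (y : Y) :
    y ∈ Set.range i ↔ y ∉ Y.basicOpen (scal p ϖ) := by
  rw [notMem_basicOpen_iff p hϖ]
  have h1 : Set.range i = p ⁻¹' Set.range (Spec.map (CommRingCat.ofHom (algebraMap V κ))) := by
    have h2 : i = h.isoPullback.hom ≫ pullback.fst p (Spec.map (CommRingCat.ofHom (algebraMap V κ))) := by simp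
    rw [← Scheme.Pullback.range_fst]
    conv_lhs => rw [h2]
    ext z
    constructor
    · rintro ⟨a, rfl⟩
      exact ⟨_, rfl⟩
    · rintro ⟨b, rfl⟩
      obtain ⟨a, rfl⟩ := (h.isoPullback.hom.homeomorph).surjective b
      exact ⟨a, rfl⟩
  rw [h1]
  have h3 : ∀ x : PrimeSpectrum V, x ∈ Set.range (Spec.map (CommRingCat.ofHom (algebraMap V κ))) ↔
      x = IsLocalRing.closedPoint V := by
    intro x
    have h4 : (PrimeSpectrum.comap (algebraMap V κ) ⊥).asIdeal = IsLocalRing.maximalIdeal V := by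
      rw [PrimeSpectrum.comap_asIdeal, hϖ.maximalIdeal_eq, ← ker_algebraMap hκ hϖ]
      rfl
    have h5 : PrimeSpectrum.comap (algebraMap V κ) ⊥ = IsLocalRing.closedPoint V := PrimeSpectrum.ext h4
    constructor
    · rintro ⟨a, rfl⟩
      rw [← h5]
      have h6 : (show PrimeSpectrum κ from a) = ⊥ := Subsingleton.elim _ _
      change PrimeSpectrum.comap (algebraMap V κ) (show PrimeSpectrum κ from a) = _
      rw [h6]
    · rintro rfl
      exact ⟨(⊥ : PrimeSpectrum κ), h5⟩
  exact h3 (p y)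

include p in
theorem isPrime_span_str (hκ : Function.Surjective (algebraMap V κ))
    (h : IsPullback i k₀ p (Spec.map (CommRingCat.ofHom (algebraMap V κ)))) [IsIntegral Y₀] {ϖ : V}
    (hϖ : Irreducible ϖ) {W : Y.Opens} (hW : IsAffineOpen W) (y : Y) (hyW : y ∈ W)
    (hy : y ∉ Y.basicOpen (scal p ϖ)) : (Ideal.span {str p W ϖ}).IsPrime := by
  have hcl : IsClosedImmersion (Spec.map (CommRingCat.ofHom (algebraMap V κ))) :=
    IsClosedImmersion.spec_of_surjective _ hκ
  obtain ⟨hsurj, hker⟩ := Flat2C.Thick.surjective_app_and_ker_app h (isAffineOpen_top _) hW le_top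
  rw [ker_specMap_app_top hκ hϖ, Ideal.map_span, Set.image_singleton] at hker
  have h1 : (Ideal.span {str p W ϖ}) = RingHom.ker (i.app W).hom := hker.symm
  obtain ⟨y₀, rfl⟩ := (mem_range_iff p hκ h hϖ y).2 hy
  have hne : Nonempty (i ⁻¹ᵁ W) := ⟨⟨y₀, hyW⟩⟩
  rw [h1]
  exact RingHom.ker_isPrime _

include p in
theorem isPrime_span_ge_of_integral (hκ : Function.Surjective (algebraMap V κ))
    (h : IsPullback i k₀ p (Spec.map (CommRingCat.ofHom (algebraMap V κ)))) [IsIntegral Y₀] {ϖ : V}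
    (hϖ : Irreducible ϖ) (y : Y) (hy : y ∉ Y.basicOpen (scal p ϖ)) :
    (Ideal.span {GenIso.ge (show y ∈ (⊤ : Y.Opens) from trivial) (scal p ϖ)}).IsPrime := by
  obtain ⟨W, hW, hyW, -⟩ := exists_isAffineOpen_mem_and_subset (U := (⊤ : Y.Opens))
    (show y ∈ (⊤ : Y.Opens) from trivial)
  let _ := Y.presheaf.algebra_section_stalk ⟨y, hyW⟩
  have hloc := hW.isLocalization_stalk ⟨y, hyW⟩
  have h0 : algebraMap Γ(Y, W) (Y.presheaf.stalk y) (str p W ϖ) =
      GenIso.ge (show y ∈ (⊤ : Y.Opens) from trivial) (scal p ϖ) :=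
    GenIso.ge_ores (le_top : W ≤ ⊤) hyW (scal p ϖ)
  have hmem : str p W ϖ ∈ (hW.primeIdealOf ⟨y, hyW⟩).asIdeal := by
    by_contra hcon
    apply hy
    rw [mem_basicOpen_iff _ (show y ∈ (⊤ : Y.Opens) from trivial), ← h0]
    exact IsLocalization.map_units (M := (hW.primeIdealOf ⟨y, hyW⟩).asIdeal.primeCompl)
      (Y.presheaf.stalk y) ⟨_, hcon⟩
  have hp := isPrime_span_str p hκ h hϖ hW y hyW hy
  have hdisj : Disjoint ((hW.primeIdealOf ⟨y, hyW⟩).asIdeal.primeCompl : Set Γ(Y, W))
      ((Ideal.span {str p W ϖ} : Ideal Γ(Y, W)) : Set Γ(Y, W)) := by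
    rw [Set.disjoint_left]
    intro x hx hx'
    exact hx ((Ideal.span_singleton_le_iff_mem _).2 hmem hx')
  have h2 := IsLocalization.isPrime_of_isPrime_disjoint (hW.primeIdealOf ⟨y, hyW⟩).asIdeal.primeCompl
    (Y.presheaf.stalk y) _ hp hdisj
  rw [Ideal.map_span, Set.image_singleton, h0] at h2
  exact h2

variable {K : Type u} [Field K] [Algebra V K] [IsFractionRing V K]
  {Z : Scheme.{u}} {g : Z ⟶ Y} {k : Z ⟶ Spec (CommRingCat.of K)}

include p in
/-- On a flat scheme over a discrete valuation ring with integral special fibre, two invertible modules which agree on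
the generic fibre are isomorphic. -/
theorem nonempty_iso_of_generic_of_integral [Flat p] (hκ : Function.Surjective (algebraMap V κ))
    (h₀ : IsPullback i k₀ p (Spec.map (CommRingCat.ofHom (algebraMap V κ)))) [IsIntegral Y₀]
    (h : IsPullback g k p (Spec.map (CommRingCat.ofHom (algebraMap V K))))
    {L L' : Y.Modules} (hL : PicF.IsInvertible L) (hL' : PicF.IsInvertible L')
    (e : Nonempty ((Scheme.Modules.pullback g).obj L ≅ (Scheme.Modules.pullback g).obj L')) :
    Nonempty (L ≅ L') := by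
  obtain ⟨ϖ, hϖ⟩ := IsDiscreteValuationRing.exists_irreducible V
  have hg : IsOpenImmersion g := Models.DVRGeneric.isOpenImmersion_of_isPullback h
  obtain ⟨θ⟩ := nonempty_restrict_iso (opensRange_eq p h hϖ) e
  refine GenIso.nonempty_iso_of_generic_iso (π := scal p ϖ) (ores_tr_injective p hϖ.ne_zero) hL hL' θ
    (isPrime_span_ge_of_integral p hκ h₀ hϖ) ?_
  intro n hn
  obtain ⟨y₀⟩ : Nonempty Y₀ := inferInstance
  have hlc : IsLocallyConstant (fun a : Y₀ => n (i a)) := by
    rw [IsLocallyConstant.iff_exists_open]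
    intro a
    obtain ⟨W, haW, hW⟩ := hn (i a) ((mem_range_iff p hκ h₀ hϖ _).1 ⟨a, rfl⟩)
    exact ⟨i ⁻¹ᵁ W, (i ⁻¹ᵁ W).2, haW, fun a' ha' => hW _ ha' ((mem_range_iff p hκ h₀ hϖ _).1 ⟨a', rfl⟩)⟩
  refine ⟨fun _ => n (i y₀), IsLocallyConstant.const _, fun y hy => ?_⟩
  obtain ⟨a, rfl⟩ := (mem_range_iff p hκ h₀ hϖ y).2 hy
  exact hlc.apply_eq_of_preconnectedSpace _ _

end Groth.Agent.Fga.DVRLine
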