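import Groth.Agent.Fga.GrassChart

/-!
# Combinatorial graded modules

`GData σ`: finite sets `J k` with commuting maps `x i : J k → J (k + 1)` (`i : σ`), jointly surjective.
The free graded module over `B` has pieces `J k → B`, with multiplications `mul D B i k`.
-/

set_option autoImplicit false

universe u v w

namespace Groth.Agent.Fga.GQData

open Groth.Agent.Fga.GrassBasic Groth.Agent.Fga.GrassChart

/-- Combinatorial graded module. -/
structure GData (σ : Type) where
  J : ℕ → Type
  [fin : ∀ k, Fintype (J k)]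
  [dec : ∀ k, DecidableEq (J k)]
  x : σ → ∀ k, J k → J (k + 1)
  comm : ∀ i j k s, x i (k + 1) (x j k s) = x j (k + 1) (x i k s)
  gen : ∀ k t, ∃ i s, x i k s = t

attribute [instance] GData.fin GData.dec

variable {σ : Type} (D : GData σ)

section

variable (B : Type*) [CommRing B]

/-- Multiplication by the variable `i`. -/
def mul (i : σ) (k : ℕ) : (D.J k → B) →ₗ[B] (D.J (k + 1) → B) :=
  Fintype.linearCombination B (fun s => Pi.single (D.x i k s) 1)

@[simp] theorem mul_single (i : σ) (k : ℕ) (s : D.J k) :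
    mul D B i k (Pi.single s 1) = Pi.single (D.x i k s) 1 := by
  rw [mul, Fintype.linearCombination_apply, Finset.sum_eq_single s]
  · simp
  · intro b _ hb; simp [hb]
  · simp

theorem mul_comm' (i j : σ) (k : ℕ) (v : D.J k → B) :
    mul D B i (k + 1) (mul D B j k v) = mul D B j (k + 1) (mul D B i k v) := by
  have : (mul D B i (k + 1)).comp (mul D B j k) = (mul D B j (k + 1)).comp (mul D B i k) := by
    apply (Pi.basisFun B (D.J k)).ext
    intro s
    rw [Pi.basisFun_apply, LinearMap.comp_apply, LinearMap.comp_apply, mul_single, mul_single, mul_single,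
      mul_single, D.comm]
  exact congrArg (fun f => f v) this

theorem iSup_range_mul (k : ℕ) : ⨆ i, LinearMap.range (mul D B i k) = ⊤ := by
  rw [eq_top_iff, ← (Pi.basisFun B (D.J (k + 1))).span_eq, Submodule.span_le]
  rintro _ ⟨t, rfl⟩
  obtain ⟨i, s, rfl⟩ := D.gen k t
  refine Submodule.mem_iSup_of_mem i ⟨Pi.single s 1, ?_⟩
  rw [mul_single, Pi.basisFun_apply]

end

section

variable {B C : Type*} [CommRing B] [CommRing C] (φ : B →+* C)

theorem mul_map (i : σ) (k : ℕ) (v : D.J k → B) :
    (fun t => φ (mul D B i k v t)) = mul D C i k fun s => φ (v s) := by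
  ext t
  rw [mul, mul, Fintype.linearCombination_apply, Fintype.linearCombination_apply, Finset.sum_apply,
    Finset.sum_apply, map_sum]
  apply Finset.sum_congr rfl
  intro s _
  simp only [Pi.smul_apply, smul_eq_mul, map_mul]
  congr 1
  by_cases h : t = D.x i k s
  · subst h; simp
  · simp [h]

theorem bc_map (i : σ) (k : ℕ) (L : Submodule B (D.J k → B)) :
    bc φ (L.map (mul D B i k)) = (bc φ L).map (mul D C i k) := by
  apply le_antisymm
  · rw [bc_le_iff]
    rintro _ ⟨v, hv, rfl⟩
    rw [mul_map]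
    exact ⟨_, mem_bc_of_mem φ hv, rfl⟩
  · rw [Submodule.map_le_iff_le_comap, bc_le_iff]
    intro v hv
    rw [Submodule.mem_comap, ← mul_map]
    exact mem_bc_of_mem φ ⟨v, hv, rfl⟩

theorem bc_iSup {κ ι : Type*} (L : κ → Submodule B (ι → B)) : bc φ (⨆ i, L i) = ⨆ i, bc φ (L i) := by
  apply le_antisymm
  · rw [bc_le_iff]
    intro v hv
    induction hv using Submodule.iSup_induction' with
    | mem i _ hy => exact Submodule.mem_iSup_of_mem i (mem_bc_of_mem φ hy)
    | zero =>
      have : (fun i : ι => φ ((0 : ι → B) i)) = 0 := by ext i; simp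
      rw [this]
      exact Submodule.zero_mem _
    | add x y _ _ hx hy =>
      have : (fun i => φ ((x + y) i)) = (fun i => φ (x i)) + fun i => φ (y i) := by
        ext i; simp
      rw [this]
      exact Submodule.add_mem _ hx hy
  · exact iSup_le fun i => bc_mono φ (le_iSup L i)

theorem bc_top {ι : Type*} [Fintype ι] [DecidableEq ι] : bc φ (⊤ : Submodule B (ι → B)) = ⊤ := by
  rw [← (Pi.basisFun B ι).span_eq, bc_span, ← (Pi.basisFun C ι).span_eq]
  congr 2
  ext i k
  rw [Pi.basisFun_apply, Pi.basisFun_apply]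
  by_cases h : k = i
  · subst h; simp
  · simp [h]

end

section G

variable {B C : Type*} [CommRing B] [CommRing C] (φ : B →+* C)

/-- The next piece generated by `L`. -/
def nxt {k : ℕ} (L : Submodule B (D.J k → B)) : Submodule B (D.J (k + 1) → B) :=
  ⨆ i, L.map (mul D B i k)

/-- The graded submodule generated by `L`. -/
def G (L : Submodule B (D.J 0 → B)) : ∀ k, Submodule B (D.J k → B)
  | 0 => L
  | k + 1 => nxt D (G L k)

@[simp] theorem G_zero (L : Submodule B (D.J 0 → B)) : G D L 0 = L := rfl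

@[simp] theorem G_succ (L : Submodule B (D.J 0 → B)) (k : ℕ) : G D L (k + 1) = nxt D (G D L k) := rfl

theorem bc_nxt {k : ℕ} (L : Submodule B (D.J k → B)) : bc φ (nxt D L) = nxt D (bc φ L) := by
  rw [nxt, bc_iSup, nxt]
  simp only [bc_map]

theorem bc_G (L : Submodule B (D.J 0 → B)) (k : ℕ) : bc φ (G D L k) = G D (bc φ L) k := by
  induction k with
  | zero => rfl
  | succ k ih => rw [G_succ, bc_nxt, ih, G_succ]

theorem nxt_mono {k : ℕ} {L L' : Submodule B (D.J k → B)} (h : L ≤ L') : nxt D L ≤ nxt D L' :=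
  iSup_mono fun i => Submodule.map_mono h

theorem nxt_top (k : ℕ) : nxt D (⊤ : Submodule B (D.J k → B)) = ⊤ := by
  rw [nxt]
  simp only [Submodule.map_top]
  exact iSup_range_mul D B k

/-- Graded families with quotients of the given ranks. -/
structure FamPt (h : ℕ → ℕ) (L : ∀ k, Submodule B (D.J k → B)) : Prop where
  rank : ∀ k, IsQuotRank (h k) (L k)
  nxt_le : ∀ k, nxt D (L k) ≤ L (k + 1)

variable {D}

theorem FamPt.bc {h : ℕ → ℕ} {L : ∀ k, Submodule B (D.J k → B)} (hL : FamPt D h L) :
    FamPt D h fun k => bc φ (L k) where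
  rank k := (hL.rank k).bc φ
  nxt_le k := by
    rw [← bc_nxt]
    exact bc_mono φ (hL.nxt_le k)

variable (D)

/-- Over fields, graded families with quotients of ranks `h` are generated in degree `0`. -/
def FieldGen (h : ℕ → ℕ) : Prop :=
  ∀ (K : Type u) [Field K] (L : ∀ k, Submodule K (D.J k → K)), FamPt D h L → ∀ k, L (k + 1) ≤ nxt D (L k)

variable {D}

/-- Nakayama: `N ≤ L`, the quotient by `L` projective, equality after base change to all residue fields. -/
theorem eq_of_bc_eq {ι : Type*} [Fintype ι] [DecidableEq ι] {B : Type u} [CommRing B] {N L : Submodule B (ι → B)}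
    (hN : N ≤ L)
    (hproj : Module.Projective B ((ι → B) ⧸ L))
    (h : ∀ (K : Type u) [Field K] (φ : B →+* K), GrassBasic.bc φ L ≤ GrassBasic.bc φ N) : N = L := by
  obtain ⟨s, hs⟩ := Module.projective_lifting_property L.mkQ LinearMap.id L.mkQ_surjective
  have hs' : ∀ x, L.mkQ (s x) = x := fun x => congrArg (fun f => f x) hs
  let Q := LinearMap.range s
  have hLQ : ∀ v, v ∈ L → v ∈ Q → v = 0 := by
    rintro _ hv ⟨x, rfl⟩
    have h1 : L.mkQ (s x) = 0 := (Submodule.Quotient.mk_eq_zero L).2 hv
    rw [hs'] at h1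
    rw [h1, map_zero]
  have hsup : L ⊔ Q = ⊤ := by
    rw [eq_top_iff]
    intro v _
    rw [← sub_add_cancel v (s (L.mkQ v))]
    refine Submodule.add_mem_sup ?_ ⟨_, rfl⟩
    rw [← Submodule.Quotient.mk_eq_zero]
    change L.mkQ (v - s (L.mkQ v)) = 0
    rw [map_sub, hs', sub_self]
  have htop : N ⊔ Q = ⊤ := by
    have h1 : (topIdeal (N ⊔ Q)) = ⊤ := by
      by_contra hne
      obtain ⟨m, hm, hle⟩ := Ideal.exists_le_maximal _ hne
      let _ := Ideal.Quotient.field m
      have h2 : GrassBasic.bc (Ideal.Quotient.mk m) (N ⊔ Q) = ⊤ := by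
        rw [eq_top_iff, ← bc_top (ι := ι) (Ideal.Quotient.mk m), ← hsup, bc_sup, bc_sup]
        exact sup_le_sup_right (h (B ⧸ m) (Ideal.Quotient.mk m)) _
      rw [bc_eq_top_iff] at h2
      have h3 := Ideal.map_mono (f := Ideal.Quotient.mk m) hle
      rw [h2, Ideal.map_quotient_self, top_le_iff] at h3
      exact bot_ne_top h3
    have h4 := (bc_eq_top_iff (RingHom.id B) (N ⊔ Q)).2 (by rw [h1, Ideal.map_top])
    rwa [bc_id] at h4
  refine le_antisymm hN fun v hv => ?_
  have hv' : v ∈ N ⊔ Q := by rw [htop]; trivial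
  obtain ⟨n, hn, q, hq, rfl⟩ := Submodule.mem_sup.1 hv'
  have h5 : q = 0 := by
    apply hLQ q _ hq
    have := L.sub_mem hv (hN hn)
    rwa [add_sub_cancel_left] at this
  rw [h5, add_zero]
  exact hn

/-- Over any ring, graded families are generated in degree zero, if this holds over fields. -/
theorem FamPt.eq_nxt {h : ℕ → ℕ} (hD : FieldGen.{u} D h) {B : Type u} [CommRing B]
    {L : ∀ k, Submodule B (D.J k → B)} (hL : FamPt D h L) (k : ℕ) : L (k + 1) = nxt D (L k) := by
  symm
  apply eq_of_bc_eq (hL.nxt_le k) (hL.rank (k + 1)).proj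
  intro K _ φ
  rw [bc_nxt]
  exact hD K _ (hL.bc φ) k

theorem FamPt.eq_G {h : ℕ → ℕ} (hD : FieldGen.{u} D h) {B : Type u} [CommRing B]
    {L : ∀ k, Submodule B (D.J k → B)} (hL : FamPt D h L) (k : ℕ) : L k = G D (L 0) k := by
  induction k with
  | zero => rfl
  | succ k ih => rw [hL.eq_nxt hD, G_succ, ← ih]

theorem famPt_G {h : ℕ → ℕ} {L : Submodule B (D.J 0 → B)} (hL : ∀ k, IsQuotRank (h k) (G D L k)) :
    FamPt D h (G D L) where
  rank := hL
  nxt_le _ := le_rfl

end G

end Groth.Agent.Fga.GQData
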