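import Groth.Agent.Fga.GrMain
import Groth.Agent.Fga.GrassChart

/-!
# The rank ideal and projectivity of constant rank over arbitrary base changes
-/

set_option autoImplicit false
set_option backward.isDefEq.respectTransparency false

universe u

open TensorProduct IsLocalRing

namespace Groth.Agent.Fga.GQRank

open Groth.Agent.Fga.GrRank Groth.Agent.Fga.GrFam

section

variable {A B M : Type u} [CommRing A] [CommRing B] [Algebra A B] [AddCommGroup M] [Module A M]

theorem rankAtStalk_eq (p : PrimeSpectrum B) :
    Module.rankAtStalk (R := B) (B ⊗[A] M) p =
      Module.finrank (Localization.AtPrime p.asIdeal) (Localization.AtPrime p.asIdeal ⊗[A] M) := by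
  rw [Module.rankAtStalk_eq_finrank_tensorProduct]
  exact (cancel A B (Localization.AtPrime p.asIdeal) M).finrank_eq

theorem rank_iff [IsNoetherianRing A] [Module.Finite A M] (c : ℕ)
    (hb : ∀ (K : Type u) [Field K] [Algebra A K] (g : B →+* K), g.comp (algebraMap A B) = algebraMap A K →
      Module.finrank K (K ⊗[A] M) ≤ c) :
    (Module.Projective B (B ⊗[A] M) ∧ ∀ p : PrimeSpectrum B, Module.rankAtStalk (R := B) (B ⊗[A] M) p = c) ↔
      ∀ a ∈ rankIdeal A M c, algebraMap A B a = 0 := by
  constructor
  · rintro ⟨h1, h2⟩ a ha
    apply eq_zero_of_localization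
    intro J hJ
    let p : PrimeSpectrum B := ⟨J, hJ.isPrime⟩
    have hfree' : Module.Free (Localization.AtPrime J) (Localization.AtPrime J ⊗[B] (B ⊗[A] M)) :=
      Module.free_of_flat_of_isLocalRing
    have hfree : Module.Free (Localization.AtPrime J) (Localization.AtPrime J ⊗[A] M) :=
      Module.Free.of_equiv (cancel A B (Localization.AtPrime J) M)
    have h3 : Module.finrank (ResidueField (Localization.AtPrime J))
        (ResidueField (Localization.AtPrime J) ⊗[A] M) = c := by
      rw [finrank_residue_of_free hfree]
      have := rankAtStalk_eq (A := A) (M := M) p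
      rw [h2 p] at this
      exact this.symm
    have := rankIdeal_of_free (B := Localization.AtPrime J) hfree h3 a ha
    rwa [IsScalarTower.algebraMap_apply A B (Localization.AtPrime J)] at this
  · intro hI
    have key : ∀ (J : Ideal B) [J.IsPrime],
        Nonempty ((Fin c → Localization.AtPrime J) ≃ₗ[Localization.AtPrime J] Localization.AtPrime J ⊗[A] M) := by
      intro J _
      apply free_of_rankIdeal
      · apply hb _ ((IsLocalRing.residue (Localization.AtPrime J)).comp (algebraMap B (Localization.AtPrime J)))
        ext a
        rw [IsScalarTower.algebraMap_apply A (Localization.AtPrime J) (ResidueField (Localization.AtPrime J)),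
          IsScalarTower.algebraMap_apply A B (Localization.AtPrime J)]
        rfl
      · intro a ha
        rw [IsScalarTower.algebraMap_apply A B (Localization.AtPrime J), hI a ha, map_zero]
    have hfp : Module.FinitePresentation A M := Module.finitePresentation_of_finite A M
    have hflat : Module.Flat B (B ⊗[A] M) := by
      apply Module.flat_of_localized_maximal
      intro J _
      obtain ⟨e⟩ := key J
      let e1 := (LocalizedModule.equivTensorProduct J.primeCompl (B ⊗[A] M)).trans
        (cancel A B (Localization.AtPrime J) M)
      have h1 : Module.Free (Localization.AtPrime J) (LocalizedModule J.primeCompl (B ⊗[A] M)) :=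
        Module.Free.of_equiv (e.trans e1.symm)
      exact Module.Flat.trans B (Localization.AtPrime J) _
    refine ⟨Module.Flat.projective_of_finitePresentation, fun p => ?_⟩
    rw [rankAtStalk_eq]
    obtain ⟨e⟩ := key p.asIdeal
    rw [← e.finrank_eq]
    simp

end

end Groth.Agent.Fga.GQRank
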