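import Groth.Agent.Fga.RingFunRep

/-!
# Charts of subfunctors of ring functors
-/

universe u v

open CategoryTheory Opposite Limits AlgebraicGeometry

namespace Groth.Agent.Fga.RingFunSub

open Groth.Agent.Fga.RingFunBasic Groth.Agent.Fga.RingFunRep

variable {F : CommRingCat.{u} ⥤ Type u}

theorem toAway_hom_ext {R C : CommRingCat.{u}} (s : R) (a b : away R s ⟶ C)
    (h : toAway R s ≫ a = toAway R s ≫ b) : a = b := by
  ext1
  apply IsLocalization.ringHom_ext (Submonoid.powers s)
  exact congrArg CommRingCat.Hom.hom h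

/-- Extension of a ring map to a localization. -/
noncomputable def awayDesc {R C : CommRingCat.{u}} (s : R) (a : R ⟶ C) (h : IsUnit (a s)) : away R s ⟶ C :=
  CommRingCat.ofHom (IsLocalization.Away.lift (S := Localization.Away s) s (g := a.hom) h)

@[simp] theorem toAway_awayDesc {R C : CommRingCat.{u}} (s : R) (a : R ⟶ C) (h : IsUnit (a s)) :
    toAway R s ≫ awayDesc s a h = a := by
  ext x
  simp [awayDesc]

/-- The comparison of two ways of reading off the value of a function at a point. -/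
theorem key {R : CommRingCat.{u}} {q : F.obj R} (hq : IsOpenChart q) {B C : CommRingCat.{u}} (x : F.obj B)
    (φ : B ⟶ C) (a : R ⟶ C) (ha : F.map a q = F.map φ x) (g : B) (ag : R ⟶ away B g)
    (hag : F.map ag q = F.map (toAway B g) x) (s : R) (b : B) (n : ℕ)
    (hb : ag s * toAway B g (g ^ n) = toAway B g b) {K : Type u} [Field K] (ψ : C ⟶ CommRingCat.of K)
    (hg : ψ (φ g) ≠ 0) : ψ (a s) ≠ 0 ↔ ψ (φ b) ≠ 0 := by
  have hu : IsUnit ((φ ≫ ψ) g) := by
    rw [CommRingCat.comp_apply]
    exact isUnit_iff_ne_zero.2 hg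
  let l := awayDesc g (φ ≫ ψ) hu
  have hl : toAway B g ≫ l = φ ≫ ψ := toAway_awayDesc _ _ _
  have h1 : ag ≫ l = a ≫ ψ := by
    apply hq.inj
    rw [Functor.map_comp_apply, hag, ← Functor.map_comp_apply, hl, Functor.map_comp_apply, ← ha,
      ← Functor.map_comp_apply]
  have h2 := congrArg l hb
  have h3 : l (ag s) = ψ (a s) := congrArg (fun f : R ⟶ CommRingCat.of K => f s) h1
  have h4 : ∀ y, l (toAway B g y) = ψ (φ y) := fun y => congrArg (fun f : B ⟶ CommRingCat.of K => f y) hl
  rw [map_mul, h3, h4, h4, map_pow, map_pow] at h2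
  rw [← h2]
  constructor
  · intro h
    exact mul_ne_zero h (pow_ne_zero _ hg)
  · intro h
    exact left_ne_zero_of_mul h

theorem exists_mem_notMem {C : CommRingCat.{u}} {B : CommRingCat.{u}} (φ : B ⟶ C) (I : Set B)
    (h : (Ideal.span I).map φ.hom = ⊤) (m : Ideal C) (hm : m.IsMaximal) : ∃ g ∈ I, φ g ∉ m := by
  by_contra! hcon
  apply hm.ne_top
  rw [← top_le_iff, ← h, Ideal.map_le_iff_le_comap, Ideal.span_le]
  intro g hg
  exact hcon g hg

/-- A basic open subset of an open chart is an open chart. -/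
theorem isOpenChart_away {R : CommRingCat.{u}} {q : F.obj R} (hq : IsOpenChart q) (s : R) :
    IsOpenChart (F.map (toAway R s) q) := by
  constructor
  · intro B a b h
    apply toAway_hom_ext
    apply hq.inj
    rw [Functor.map_comp_apply, Functor.map_comp_apply, h]
  · intro B x
    obtain ⟨I, hI⟩ := hq.opn B x
    let S : Set B := {c | ∃ g ∈ I, ∃ (ag : R ⟶ away B g) (b : B) (n : ℕ), F.map ag q = F.map (toAway B g) x ∧
      ag s * toAway B g (g ^ n) = toAway B g b ∧ c = g * b}
    refine ⟨Ideal.span S, ?_⟩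
    intro C φ
    -- existence of the data
    have hex : ∀ g ∈ I, ∃ (ag : R ⟶ away B g) (b : B) (n : ℕ), F.map ag q = F.map (toAway B g) x ∧
        ag s * toAway B g (g ^ n) = toAway B g b := by
      intro g hg
      have h1 : I.map (toAway B g).hom = ⊤ := by
        apply Ideal.eq_top_of_isUnit_mem _ (Ideal.mem_map_of_mem _ hg)
        exact IsLocalization.Away.algebraMap_isUnit (S := Localization.Away g) g
      obtain ⟨ag, hag⟩ := (hI _ _).2 h1
      obtain ⟨⟨b, ⟨_, n, rfl⟩⟩, hb⟩ := IsLocalization.surj (M := Submonoid.powers g) (S := Localization.Away g) (ag s)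
      exact ⟨ag, b, n, hag, hb⟩
    constructor
    · rintro ⟨a', ha'⟩
      by_contra hne
      obtain ⟨m, hm, hle⟩ := Ideal.exists_le_maximal _ hne
      let a : R ⟶ C := toAway R s ≫ a'
      have ha : F.map a q = F.map φ x := by rw [Functor.map_comp_apply, ha']
      have hIC := (hI C φ).1 ⟨a, ha⟩
      rw [← Ideal.span_eq I] at hIC
      obtain ⟨g, hg, hgm⟩ := exists_mem_notMem φ (I : Set B) hIC m hm
      obtain ⟨ag, b, n, hag, hb⟩ := hex g hg
      let _ := Ideal.Quotient.field m
      let ψ : C ⟶ CommRingCat.of (C ⧸ m) := CommRingCat.ofHom (Ideal.Quotient.mk m)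
      have hψ : ∀ c, ψ c ≠ 0 ↔ c ∉ m := fun c => not_congr Ideal.Quotient.eq_zero_iff_mem
      have h1 : ψ (a s) ≠ 0 := by
        have hu : IsUnit (a s) := by
          have : IsUnit (toAway R s s) := IsLocalization.Away.algebraMap_isUnit (S := Localization.Away s) s
          exact this.map a'.hom
        rw [hψ]
        intro h
        exact hm.ne_top (Ideal.eq_top_of_isUnit_mem _ h hu)
      have h2 := (key hq x φ a ha g ag hag s b n hb (K := C ⧸ m) ψ ((hψ _).2 hgm)).1 h1
      have h3 : ψ (φ (g * b)) ≠ 0 := by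
        rw [map_mul, map_mul]
        exact mul_ne_zero ((hψ _).2 hgm) h2
      rw [hψ] at h3
      apply h3
      apply hle
      exact Ideal.mem_map_of_mem _ (Ideal.subset_span ⟨g, hg, ag, b, n, hag, hb, rfl⟩)
    · intro htop
      have hSI : Ideal.span S ≤ I := by
        rw [Ideal.span_le]
        rintro _ ⟨g, hg, ag, b, n, -, -, rfl⟩
        exact I.mul_mem_right _ hg
      have hIC : I.map φ.hom = ⊤ := by
        rw [← top_le_iff, ← htop]
        exact Ideal.map_mono hSI
      obtain ⟨a, ha⟩ := (hI C φ).2 hIC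
      have hu : IsUnit (a s) := by
        by_contra hnu
        obtain ⟨m, hm, has⟩ := exists_max_ideal_of_mem_nonunits hnu
        obtain ⟨_, ⟨g, hg, ag, b, n, hag, hb, rfl⟩, hgm⟩ := exists_mem_notMem φ S htop m hm
        let _ := Ideal.Quotient.field m
        let ψ : C ⟶ CommRingCat.of (C ⧸ m) := CommRingCat.ofHom (Ideal.Quotient.mk m)
        have hψ : ∀ c, ψ c ≠ 0 ↔ c ∉ m := fun c => not_congr Ideal.Quotient.eq_zero_iff_mem
        have h0 : ψ (φ (g * b)) ≠ 0 := (hψ _).2 hgm
        rw [map_mul, map_mul] at h0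
        have h1 : ψ (φ g) ≠ 0 := left_ne_zero_of_mul h0
        have h2 : ψ (φ b) ≠ 0 := right_ne_zero_of_mul h0
        have h3 := (key hq x φ a ha g ag hag s b n hb (K := C ⧸ m) ψ h1).2 h2
        exact (hψ _).1 h3 has
      refine ⟨awayDesc s a hu, ?_⟩
      rw [← Functor.map_comp_apply, toAway_awayDesc, ha]

/-! ### Subfunctors -/

section Sub

variable (F) (P : ∀ B : CommRingCat.{u}, F.obj B → Prop)
  (hP : ∀ {B C : CommRingCat.{u}} (φ : B ⟶ C) (x : F.obj B), P B x → P C (F.map φ x))

/-- The subfunctor of `F` cut out by `P`. -/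
def Sub : CommRingCat.{u} ⥤ Type u where
  obj B := {x : F.obj B // P B x}
  map φ := ↾ fun x => ⟨F.map φ x.1, hP φ x.1 x.2⟩
  map_id B := by
    ext x
    simp
  map_comp φ ψ := by
    ext x
    simp

theorem sub_map_val {B C : CommRingCat.{u}} (φ : B ⟶ C) (x : (Sub F P hP).obj B) :
    ((Sub F P hP).map φ x).1 = F.map φ x.1 := rfl

variable {F P hP}

theorem isZarSheaf_sub (hF : IsZarSheaf F)
    (hloc : ∀ (B : CommRingCat.{u}) (n : ℕ) (f : Fin n → B), Ideal.span (Set.range f) = ⊤ → ∀ x : F.obj B,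
      (∀ i, P _ (F.map (toAway B (f i)) x)) → P B x) : IsZarSheaf (Sub F P hP) := by
  constructor
  · intro B n f hf x y h
    apply Subtype.ext
    apply hF.sep B n f hf
    intro i
    exact congrArg Subtype.val (h i)
  · intro B n f hf x h
    obtain ⟨y, hy⟩ := hF.glue B n f hf (fun i => (x i).1) (by
      intro i j C a b hab
      exact congrArg Subtype.val (h i j C a b hab))
    refine ⟨⟨y, hloc B n f hf y fun i => ?_⟩, fun i => Subtype.ext (hy i)⟩
    rw [hy i]
    exact (x i).2

/-- The chart of a closed subfunctor. -/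
theorem isOpenChart_sub {R : CommRingCat.{u}} {q : F.obj R} (hq : IsOpenChart q) (J : Ideal R)
    (hJ : ∀ (B : CommRingCat.{u}) (a : R ⟶ B), P B (F.map a q) ↔ J ≤ RingHom.ker a.hom)
    (h0 : P (CommRingCat.of (R ⧸ J)) (F.map (CommRingCat.ofHom (Ideal.Quotient.mk J)) q)) :
    IsOpenChart (F := Sub F P hP) (⟨F.map (CommRingCat.ofHom (Ideal.Quotient.mk J)) q, h0⟩ :
      (Sub F P hP).obj (CommRingCat.of (R ⧸ J))) := by
  constructor
  · intro B a b h
    have h1 := congrArg Subtype.val h
    rw [sub_map_val, sub_map_val, ← Functor.map_comp_apply, ← Functor.map_comp_apply] at h1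
    have h2 := hq.inj B _ _ h1
    ext1
    apply Ideal.Quotient.ringHom_ext
    exact congrArg CommRingCat.Hom.hom h2
  · intro B x
    obtain ⟨I, hI⟩ := hq.opn B x.1
    refine ⟨I, fun C φ => ?_⟩
    rw [← hI C φ]
    constructor
    · rintro ⟨a, ha⟩
      refine ⟨CommRingCat.ofHom (Ideal.Quotient.mk J) ≫ a, ?_⟩
      have h1 := congrArg Subtype.val ha
      rw [sub_map_val, sub_map_val, ← Functor.map_comp_apply] at h1
      exact h1
    · rintro ⟨a, ha⟩
      have h1 : P C (F.map a q) := by
        rw [ha]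
        exact hP φ x.1 x.2
      have h2 := (hJ C a).1 h1
      refine ⟨CommRingCat.ofHom (Ideal.Quotient.lift J a.hom fun y hy => h2 hy), ?_⟩
      apply Subtype.ext
      rw [sub_map_val, sub_map_val, ← Functor.map_comp_apply]
      exact ha

end Sub

/-! ### Transfer of representability along natural bijections -/

/-- Transfer of a representation. -/
def transfer {G : CommRingCat.{u} ⥤ Type u} {P : Scheme.{u}}
    (r : Rep F P) (e : ∀ B, F.obj B ≃ G.obj B)
    (he : ∀ {B C : CommRingCat.{u}} (φ : B ⟶ C) (x : F.obj B), e C (F.map φ x) = G.map φ (e B x)) : Rep G P where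
  e B := (r.e B).trans (e B)
  nat φ t := by
    rw [Equiv.trans_apply, Equiv.trans_apply, r.nat, he]

end Groth.Agent.Fga.RingFunSub
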