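import Groth.Agent.Fga.GQData
import Groth.Agent.Fga.GQRank
import Groth.Agent.Fga.Grass
import Groth.Agent.Fga.RingFunSub

/-!
# The graded Quot functor of a combinatorial graded module, and its charts
-/

set_option autoImplicit false

universe u v w

open CategoryTheory AlgebraicGeometry

namespace Groth.Agent.Fga.GQFun

open Groth.Agent.Fga.GrassBasic Groth.Agent.Fga.GrassChart Groth.Agent.Fga.GQData Groth.Agent.Fga.Grass
  Groth.Agent.Fga.RingFunBasic Groth.Agent.Fga.RingFunRep Groth.Agent.Fga.RingFunSub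
  Groth.Agent.Fga.GrFam Groth.Agent.Fga.GrRank Groth.Agent.Fga.GQRank

open TensorProduct

variable {σ : Type} (D : GData σ) (h : ℕ → ℕ)

/-- All the generated quotients have the right ranks. -/
def gqProp (B : CommRingCat.{u}) (L : (grFun.{u} (D.J 0) (h 0)).obj B) : Prop :=
  ∀ k, IsQuotRank (h k) (G D L.1 k)

theorem gqProp_map {B C : CommRingCat.{u}} (φ : B ⟶ C) (L : (grFun.{u} (D.J 0) (h 0)).obj B)
    (hL : gqProp D h B L) : gqProp D h C ((grFun.{u} (D.J 0) (h 0)).map φ L) := by
  intro k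
  rw [grFun_map_val, ← bc_G]
  exact (hL k).bc φ.hom

/-- The graded Quot functor. -/
def gq : CommRingCat.{u} ⥤ Type u :=
  Sub (grFun.{u} (D.J 0) (h 0)) (gqProp D h) (fun φ x hx => gqProp_map D h φ x hx)

theorem isZarSheaf_gq : IsZarSheaf (gq.{u} D h) := by
  apply isZarSheaf_sub isZarSheaf_grFun
  intro B n f hf x hx k
  apply isQuotRank_of_forall_away f hf
  intro i
  have := hx i k
  rw [grFun_map_val, ← bc_G] at this
  exact this

/-! ### The universal family on a chart -/

section Fam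

variable {A : Type u} [CommRing A] (L : Submodule A (D.J 0 → A))

/-- The graded family of quotients. -/
def famL : Fam A σ where
  M k := (D.J k → A) ⧸ G D L k
  x i k := Submodule.mapQ (G D L k) (G D L (k + 1)) (mul D A i k)
    (Submodule.map_le_iff_le_comap.1 (le_iSup (fun i => (G D L k).map (mul D A i k)) i))
  comm i j k m := by
    obtain ⟨v, rfl⟩ := Submodule.Quotient.mk_surjective _ m
    simp only [Submodule.mapQ_apply]
    rw [mul_comm']

theorem gen_famL : (famL D L).Gen where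
  fin0 := inferInstanceAs (Module.Finite A ((D.J 0 → A) ⧸ G D L 0))
  gen k := by
    have h1 := congrArg (Submodule.map (G D L (k + 1)).mkQ) (iSup_range_mul D A k)
    rw [Submodule.map_top, Submodule.range_mkQ, Submodule.map_iSup] at h1
    refine Eq.trans ?_ h1
    congr 1
    ext1 i
    apply le_antisymm
    · rintro _ ⟨y, rfl⟩
      obtain ⟨v, rfl⟩ := Submodule.Quotient.mk_surjective _ y
      exact ⟨mul D A i k v, ⟨v, rfl⟩, rfl⟩
    · rintro _ ⟨_, ⟨v, rfl⟩, rfl⟩
      exact ⟨Submodule.Quotient.mk v, rfl⟩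

/-- The quotients of the base changed family. -/
noncomputable def fibEquiv {B : Type u} [CommRing B] [Algebra A B] (k : ℕ) :
    B ⊗[A] (famL D L).M k ≃ₗ[B] ((D.J k → B) ⧸ bc (algebraMap A B) (G D L k)) :=
  (isBaseChange_quotMap (C := B) (piMap A B (D.J k)) (isBaseChange_piMap A B (D.J k)) (G D L k)).equiv

theorem isQuotRank_bc_iff {B : Type u} [CommRing B] [Algebra A B] (k c : ℕ) :
    IsQuotRank c (bc (algebraMap A B) (G D L k)) ↔
      (Module.Projective B (B ⊗[A] (famL D L).M k) ∧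
        ∀ p : PrimeSpectrum B, Module.rankAtStalk (R := B) (B ⊗[A] (famL D L).M k) p = c) := by
  constructor
  · rintro ⟨h1, h2⟩
    refine ⟨Module.Projective.of_equiv (fibEquiv D L k).symm, fun p => ?_⟩
    rw [Module.rankAtStalk_eq_of_equiv (fibEquiv D L k), h2]
  · rintro ⟨h1, h2⟩
    refine ⟨Module.Projective.of_equiv (fibEquiv D L k), fun p => ?_⟩
    rw [← Module.rankAtStalk_eq_of_equiv (fibEquiv D L k), h2]

theorem fdim_eq_of_isQuotRank {K : Type u} [Field K] [Algebra A K] (k c : ℕ)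
    (hr : IsQuotRank c (bc (algebraMap A K) (G D L k))) : (famL D L).fdim K k = c := by
  obtain ⟨h1, h2⟩ := (isQuotRank_bc_iff D L k c).1 hr
  have h3 := h2 (IsLocalRing.closedPoint K)
  rw [Module.rankAtStalk_eq_finrank_of_free] at h3
  change Module.finrank K (K ⊗[A] (famL D L).M k) = c
  simpa using h3

end Fam

/-! ### Finitely many good functions -/

section Good

variable {A : Type u} [CommRing A] {ι : Type} {F : Fam A ι}

/-- A function is good when the fibre dimensions are `≤ φ` wherever it does not vanish. -/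
def Good (F : Fam A ι) (φ : ℕ → ℕ) (s : A) : Prop :=
  ∀ (K : Type u) [Field K] [Algebra A K], algebraMap A K s ≠ 0 → ∀ r, F.fdim K r ≤ φ r

theorem exists_good_one [IsNoetherianRing A] [Finite ι] (hF : F.Gen) (φ : ℕ → ℕ) (K : Type u)
    [Field K] [Algebra A K] (hK : ∀ r, F.fdim K r ≤ φ r) : ∃ s : A, Good F φ s ∧ algebraMap A K s ≠ 0 := by
  obtain ⟨H, hH, _N, hN⟩ := Fam.exists_strat hF
  have hfin := hF.finite
  have key : ∀ g ∈ H, ∃ s : A, algebraMap A K s ≠ 0 ∧ ((¬ ∀ r, g r ≤ φ r) →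
      ∀ (K' : Type u) [Field K'] [Algebra A K'], algebraMap A K' s ≠ 0 → F.fdim K' ≠ g) := by
    intro g _
    by_cases hh : ∀ r, g r ≤ φ r
    · exact ⟨1, by rw [map_one]; exact one_ne_zero, fun h' => absurd hh h'⟩
    · push Not at hh
      obtain ⟨r, hr'⟩ := hh
      obtain ⟨s, hs, hs'⟩ := exists_semicontinuous (A := A) (M := F.M r) K
      refine ⟨s, hs, fun _ K' _ _ hK' heq => ?_⟩
      have h2 := hs' K' hK'
      have h3 := hK r
      have h4 : F.fdim K' r = g r := congrFun heq r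
      simp only [Fam.fdim] at h3 h4
      omega
  choose! s hs hs' using key
  refine ⟨∏ g ∈ hH.toFinset, s g, fun K' _ _ hK' => ?_, ?_⟩
  · by_contra hcon
    have h1 := (hN K').1
    rw [map_prod, Finset.prod_ne_zero_iff] at hK'
    exact hs' _ h1 hcon K' (hK' _ ((Set.Finite.mem_toFinset hH).mpr h1)) rfl
  · rw [map_prod]
    exact Finset.prod_ne_zero_iff.mpr fun g hg => hs g ((Set.Finite.mem_toFinset hH).mp hg)

theorem exists_good [IsNoetherianRing A] [Finite ι] (hF : F.Gen) (φ : ℕ → ℕ) :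
    ∃ T : Finset A, (∀ s ∈ T, Good F φ s) ∧ ∀ (K : Type u) [Field K] [Algebra A K],
      (∀ r, F.fdim K r ≤ φ r) → ∃ s ∈ T, algebraMap A K s ≠ 0 := by
  have hfg : (Submodule.span A {s | Good F φ s}).FG := IsNoetherian.noetherian _
  obtain ⟨T, hT, hT'⟩ := (Submodule.fg_span_iff_fg_span_finset_subset _).1 hfg
  refine ⟨T, fun s hs => hT hs, fun K _ _ hK => ?_⟩
  obtain ⟨s, hs, hs'⟩ := exists_good_one hF φ K hK
  by_contra! hcon
  apply hs'
  have h1 : Submodule.span A (T : Set A) ≤ RingHom.ker (algebraMap A K) := by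
    rw [Submodule.span_le]
    exact fun t ht => hcon t ht
  have h2 : s ∈ Submodule.span A (T : Set A) := by
    rw [← hT']
    exact Submodule.subset_span hs
  exact h1 h2

end Good

/-! ### Charts -/

section Charts

variable {D h}

theorem isNoetherianRing_chartRing (e : Fin (h 0) → D.J 0) : IsNoetherianRing (chartRing.{u} e) := by
  have h1 : IsNoetherianRing (ULift.{u} ℤ) := isNoetherianRing_of_ringEquiv ℤ ULift.ringEquiv.symm
  have h2 : IsNoetherianRing (MvPolynomial (Fin (h 0) × D.J 0) (ULift.{u} ℤ)) := inferInstance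
  exact isNoetherianRing_of_surjective _ _ (Ideal.Quotient.mk (normIdeal.{u} e)) Ideal.Quotient.mk_surjective

/-- The family over the chart `e`. -/
noncomputable def chartFam (e : Fin (h 0) → D.J 0) : Fam (chartRing.{u} e) σ :=
  famL D (chartElt.{u} e).1

/-- The ideal of the chart `e`. -/
noncomputable def chartIdeal (e : Fin (h 0) → D.J 0) : Ideal (chartRing.{u} e) :=
  ⨆ k, rankIdeal (chartRing.{u} e) ((chartFam.{u} e).M k) (h k)

theorem gqProp_iff (e : Fin (h 0) → D.J 0) {s : chartRing.{u} e} (hs : Good (chartFam.{u} e) h s)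
    {B : CommRingCat.{u}} (φ : chartRing.{u} e ⟶ B) (hu : IsUnit (φ s)) :
    gqProp D h B ((grFun (D.J 0) (h 0)).map φ (chartElt e)) ↔ chartIdeal e ≤ RingHom.ker φ.hom := by
  have hN := isNoetherianRing_chartRing.{u} e
  let _ : Algebra (chartRing.{u} e) B := φ.hom.toAlgebra
  have key : ∀ k, IsQuotRank (h k) (G D ((grFun (D.J 0) (h 0)).map φ (chartElt e)).1 k) ↔
      ∀ a ∈ rankIdeal (chartRing.{u} e) ((chartFam.{u} e).M k) (h k), φ.hom a = 0 := by
    intro k
    rw [grFun_map_val, ← bc_G]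
    have h1 := isQuotRank_bc_iff (B := B) D (chartElt.{u} e).1 k (h k)
    refine h1.trans ?_
    have hfin : Module.Finite (chartRing.{u} e) ((famL D (chartElt.{u} e).1).M k) :=
      inferInstanceAs (Module.Finite (chartRing.{u} e) ((D.J k → chartRing.{u} e) ⧸ G D (chartElt.{u} e).1 k))
    apply rank_iff (h k)
    intro K _ _ g hg
    refine hs K ?_ k
    rw [← hg, RingHom.comp_apply]
    have : IsUnit (g (φ s)) := hu.map g
    exact this.ne_zero
  rw [gqProp]
  simp only [key]
  rw [chartIdeal, iSup_le_iff]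
  rfl

/-- The localized chart ring. -/
noncomputable abbrev locRing (e : Fin (h 0) → D.J 0) (s : chartRing.{u} e) : CommRingCat.{u} :=
  away (chartRing.{u} e) s

/-- The localized ideal. -/
noncomputable def locIdeal (e : Fin (h 0) → D.J 0) (s : chartRing.{u} e) : Ideal (locRing.{u} e s) :=
  (chartIdeal.{u} e).map (toAway (chartRing.{u} e) s).hom

/-- The element over the localized chart. -/
noncomputable def locElt (e : Fin (h 0) → D.J 0) (s : chartRing.{u} e) :
    (grFun.{u} (D.J 0) (h 0)).obj (locRing.{u} e s) :=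
  (grFun (D.J 0) (h 0)).map (toAway (chartRing.{u} e) s) (chartElt e)

theorem gqProp_loc_iff (e : Fin (h 0) → D.J 0) {s : chartRing.{u} e} (hs : Good (chartFam.{u} e) h s)
    (B : CommRingCat.{u}) (a : locRing.{u} e s ⟶ B) :
    gqProp D h B ((grFun (D.J 0) (h 0)).map a (locElt e s)) ↔ locIdeal e s ≤ RingHom.ker a.hom := by
  have hu : IsUnit ((toAway (chartRing.{u} e) s ≫ a) s) := by
    have : IsUnit (toAway (chartRing.{u} e) s s) :=
      IsLocalization.Away.algebraMap_isUnit (S := Localization.Away s) s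
    exact this.map a.hom
  rw [locElt, ← Functor.map_comp_apply, gqProp_iff e hs _ hu, locIdeal, Ideal.map_le_iff_le_comap]
  rfl

/-- The chart ring of the graded Quot functor. -/
noncomputable abbrev qRing (e : Fin (h 0) → D.J 0) (s : chartRing.{u} e) : CommRingCat.{u} :=
  CommRingCat.of (locRing.{u} e s ⧸ locIdeal.{u} e s)

theorem gqProp_q (e : Fin (h 0) → D.J 0) {s : chartRing.{u} e} (hs : Good (chartFam.{u} e) h s) :
    gqProp D h (qRing.{u} e s) ((grFun (D.J 0) (h 0)).map
      (CommRingCat.ofHom (Ideal.Quotient.mk (locIdeal.{u} e s))) (locElt e s)) := by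
  rw [gqProp_loc_iff e hs]
  intro x hx
  exact Ideal.Quotient.eq_zero_iff_mem.2 hx

/-- The universal element over the chart. -/
noncomputable def qElt (e : Fin (h 0) → D.J 0) {s : chartRing.{u} e} (hs : Good (chartFam.{u} e) h s) :
    (gq.{u} D h).obj (qRing.{u} e s) :=
  ⟨(grFun (D.J 0) (h 0)).map (CommRingCat.ofHom (Ideal.Quotient.mk (locIdeal.{u} e s))) (locElt e s),
    gqProp_q e hs⟩

theorem isOpenChart_qElt (e : Fin (h 0) → D.J 0) {s : chartRing.{u} e} (hs : Good (chartFam.{u} e) h s) :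
    IsOpenChart (qElt.{u} e hs) :=
  isOpenChart_sub (isOpenChart_away (isOpenChart_chartElt.{u} e) s) (locIdeal e s)
    (fun B a => gqProp_loc_iff e hs B a) (gqProp_q e hs)

theorem exists_good_chart [Finite σ] (e : Fin (h 0) → D.J 0) :
    ∃ T : Finset (chartRing.{u} e), (∀ s ∈ T, Good (chartFam.{u} e) h s) ∧
      ∀ (K : Type u) [Field K] (a : chartRing.{u} e ⟶ CommRingCat.of K),
        gqProp D h (CommRingCat.of K) ((grFun (D.J 0) (h 0)).map a (chartElt e)) → ∃ s ∈ T, a s ≠ 0 := by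
  have hN := isNoetherianRing_chartRing.{u} e
  obtain ⟨T, hT, hT'⟩ := exists_good (gen_famL D (chartElt.{u} e).1) h
  refine ⟨T, hT, fun K _ a ha => ?_⟩
  let _ : Algebra (chartRing.{u} e) K := a.hom.toAlgebra
  refine hT' K fun r => le_of_eq ?_
  apply fdim_eq_of_isQuotRank
  have := ha r
  rw [grFun_map_val, ← bc_G] at this
  exact this

theorem exists_q {K : Type u} [Field K] (x : (gq.{u} D h).obj (CommRingCat.of K))
    (T : ∀ e : Fin (h 0) → D.J 0, Finset (chartRing.{u} e))
    (hT : ∀ e, ∀ s ∈ T e, Good (chartFam.{u} e) h s)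
    (hT' : ∀ (e : Fin (h 0) → D.J 0) (K : Type u) [Field K] (a : chartRing.{u} e ⟶ CommRingCat.of K),
      gqProp D h (CommRingCat.of K) ((grFun (D.J 0) (h 0)).map a (chartElt e)) → ∃ s ∈ T e, a s ≠ 0) :
    ∃ (e : Fin (h 0) → D.J 0) (s : chartRing.{u} e) (hs : s ∈ T e) (a : qRing.{u} e s ⟶ CommRingCat.of K),
      (gq D h).map a (qElt e (hT e s hs)) = x := by
  obtain ⟨e, a, ha⟩ := exists_chart_elt x.1
  obtain ⟨s, hs, hs'⟩ := hT' e K a (by rw [ha]; exact x.2)
  have hu : IsUnit (a s) := isUnit_iff_ne_zero.2 hs'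
  let b : locRing.{u} e s ⟶ CommRingCat.of K := awayDesc s a hu
  have hb : toAway _ s ≫ b = a := toAway_awayDesc _ _ _
  have hb' : (grFun (D.J 0) (h 0)).map b (locElt e s) = x.1 := by
    rw [locElt, ← Functor.map_comp_apply, hb, ha]
  have h1 := (gqProp_loc_iff e (hT e s hs) (CommRingCat.of K) b).1 (by rw [hb']; exact x.2)
  refine ⟨e, s, hs, CommRingCat.ofHom (Ideal.Quotient.lift (locIdeal e s) b.hom fun y hy => h1 hy), ?_⟩
  apply Subtype.ext
  change (grFun (D.J 0) (h 0)).map _ ((grFun (D.J 0) (h 0)).map _ (locElt e s)) = x.1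
  rw [← Functor.map_comp_apply, ← hb']
  rfl

variable (D h) in
/-- **Representability of the graded Quot functor**, by a scheme with finitely many affine charts. -/
theorem exists_rep_gq [Finite σ] : ∃ (P : Scheme.{u}) (_ : Rep (gq.{u} D h) P) (ι : Type) (_ : Finite ι)
    (R : ι → CommRingCat.{u}) (c : ∀ i, Spec (R i) ⟶ P), (∀ i, IsOpenImmersion (c i)) ∧
      (∀ p : P, ∃ i, p ∈ Set.range (c i)) ∧
      ∀ i, ∃ (e : Fin (h 0) → D.J 0) (s : chartRing.{u} e), R i = qRing.{u} e s := by
  choose T hT hT' using fun e : Fin (h 0) → D.J 0 => exists_good_chart.{u} (D := D) (h := h) e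
  let I := Σ e : Fin (h 0) → D.J 0, Fin (T e).card
  let S : ∀ i : I, T i.1 := fun i => (T i.1).equivFin.symm i.2
  obtain ⟨P, r, h1, h2⟩ := exists_rep (F := gq.{u} D h) (ι := ULift.{u} I)
    (fun i => qRing.{u} i.down.1 (S i.down).1) (fun i => qElt i.down.1 (hT i.down.1 _ (S i.down).2))
    (isZarSheaf_gq D h) (fun i => isOpenChart_qElt i.down.1 _) (by
      intro K _ x
      obtain ⟨e, s, hs, a, ha⟩ := exists_q x T hT hT'
      obtain ⟨n, hn⟩ := (T e).equivFin.symm.surjective ⟨s, hs⟩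
      refine ⟨⟨⟨e, n⟩⟩, ?_⟩
      have hS : S ⟨e, n⟩ = ⟨s, hs⟩ := hn
      rw [hS]
      exact ⟨a, ha⟩)
  refine ⟨P, r, I, inferInstance, fun i => qRing.{u} i.1 (S i).1,
    fun i => (r.e _).symm (qElt i.1 (hT i.1 _ (S i).2)), fun i => h1 ⟨i⟩, fun p => ?_, fun i => ⟨_, _, rfl⟩⟩
  obtain ⟨i, hi⟩ := h2 p
  exact ⟨i.down, hi⟩

end Charts

end Groth.Agent.Fga.GQFun
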