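import Groth.Agent.Fga.RepProper

/-!
# Morphisms out of schemes representing ring functors: gluing and monomorphisms
-/

universe u v

open CategoryTheory Opposite Limits AlgebraicGeometry

namespace Groth.Agent.Fga.RepHom

open Groth.Agent.Fga.RingFunBasic Groth.Agent.Fga.RingFunRep Groth.Agent.Fga.RepProper

/-- Morphisms from `T` are determined by affine test objects. -/
theorem hom_ext_affine {T Y : Scheme.{u}} (a b : T ⟶ Y)
    (h : ∀ (B : CommRingCat.{u}) (t : Spec B ⟶ T), t ≫ a = t ≫ b) : a = b := by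
  apply Scheme.Cover.hom_ext T.affineOpenCover.openCover
  intro k
  exact h _ (T.affineOpenCover.f k)

/-- Gluing morphisms along an open cover; the compatibility is tested on affine schemes. -/
theorem exists_glue {P Y : Scheme.{u}} (𝒰 : P.OpenCover) (f : ∀ k, 𝒰.X k ⟶ Y)
    (h : ∀ (k l : 𝒰.I₀) (B : CommRingCat.{u}) (a : Spec B ⟶ 𝒰.X k) (b : Spec B ⟶ 𝒰.X l),
      a ≫ 𝒰.f k = b ≫ 𝒰.f l → a ≫ f k = b ≫ f l) :
    ∃ g : P ⟶ Y, ∀ k, 𝒰.f k ≫ g = f k := by
  have key : ∀ k l, pullback.fst (𝒰.f k) (𝒰.f l) ≫ f k = pullback.snd _ _ ≫ f l := by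
    intro k l
    apply hom_ext_affine
    intro B t
    have := h k l B (t ≫ pullback.fst (𝒰.f k) (𝒰.f l)) (t ≫ pullback.snd (𝒰.f k) (𝒰.f l)) (by
      rw [Category.assoc, Category.assoc, pullback.condition])
    rw [Category.assoc, Category.assoc] at this
    exact this
  exact ⟨𝒰.glueMorphisms f key, fun k => 𝒰.ι_glueMorphisms f key k⟩

theorem mono_of_affine {P Y : Scheme.{u}} (g : P ⟶ Y)
    (h : ∀ (B : CommRingCat.{u}) (a b : Spec B ⟶ P), a ≫ g = b ≫ g → a = b) : Mono g := by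
  constructor
  intro T a b hab
  apply hom_ext_affine
  intro B t
  apply h
  rw [Category.assoc, Category.assoc, hab]

/-- A morphism is a monomorphism if it is so on charts which are the preimages of opens. -/
theorem mono_of_charts {P Y : Scheme.{u}} {ι : Type*} {U : ι → Scheme.{u}} (c : ∀ i, U i ⟶ P)
    [∀ i, IsOpenImmersion (c i)] (hcov : ∀ p : P, ∃ i, p ∈ Set.range (c i)) (g : P ⟶ Y)
    (V : ι → Y.Opens) (h1 : ∀ i, Mono (c i ≫ g)) (h2 : ∀ i, ∀ p, g p ∈ V i → p ∈ Set.range (c i))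
    (h3 : ∀ i, ∀ p ∈ Set.range (c i), g p ∈ V i) : Mono g := by
  constructor
  intro T a b hab
  let W : ι → T.Opens := fun i => (a ≫ g) ⁻¹ᵁ V i
  have hW : TopologicalSpace.IsOpenCover W := by
    apply TopologicalSpace.IsOpenCover.mk
    apply TopologicalSpace.Opens.ext
    rw [TopologicalSpace.Opens.coe_iSup, TopologicalSpace.Opens.coe_top, Set.eq_univ_iff_forall]
    intro z
    obtain ⟨i, hi⟩ := hcov (a z)
    refine Set.mem_iUnion.2 ⟨i, ?_⟩
    change (a ≫ g) z ∈ V i
    rw [Scheme.Hom.comp_apply]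
    exact h3 i _ hi
  apply Scheme.Cover.hom_ext (T.openCoverOfIsOpenCover W hW)
  intro i
  change (W i).ι ≫ a = (W i).ι ≫ b
  have key : ∀ d : T ⟶ P, d ≫ g = a ≫ g → Set.range ((W i).ι ≫ d) ⊆ Set.range (c i) := by
    rintro d hd _ ⟨z, rfl⟩
    apply h2
    rw [← Scheme.Hom.comp_apply, Category.assoc, hd, Scheme.Hom.comp_apply]
    exact z.2
  have e1 := IsOpenImmersion.lift_fac (c i) ((W i).ι ≫ a) (key a rfl)
  have e2 := IsOpenImmersion.lift_fac (c i) ((W i).ι ≫ b) (key b hab.symm)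
  rw [← e1, ← e2]
  congr 1
  have := h1 i
  rw [← cancel_mono (c i ≫ g)]
  rw [← Category.assoc, e1, ← Category.assoc, e2, Category.assoc, Category.assoc, hab]

section Nat

variable {F G : CommRingCat.{u} ⥤ Type u} {P Q : Scheme.{u}} (r : Rep F P) (s : Rep G Q)
  (e : ∀ B, F.obj B → G.obj B)
  (he : ∀ {B C : CommRingCat.{u}} (φ : B ⟶ C) (x : F.obj B), e C (F.map φ x) = G.map φ (e B x))

include he in
/-- A natural transformation induces a morphism of representing schemes. -/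
theorem exists_hom_of_nat : ∃ g : P ⟶ Q, ∀ (B : CommRingCat.{u}) (t : Spec B ⟶ P), s.e B (t ≫ g) = e B (r.e B t) := by
  let x : Fam G P :=
    { q := fun {B} t => e B (r.e B t)
      nat := fun φ t => by rw [r.nat, he] }
  obtain ⟨g, hg⟩ := s.fam_surjective x
  refine ⟨g, fun B t => ?_⟩
  exact congrArg (fun z => Fam.q z t) hg

include he in
theorem exists_mono_of_nat (hinj : ∀ B, Function.Injective (e B)) :
    ∃ g : P ⟶ Q, Mono g ∧ ∀ (B : CommRingCat.{u}) (t : Spec B ⟶ P), s.e B (t ≫ g) = e B (r.e B t) := by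
  obtain ⟨g, hg⟩ := exists_hom_of_nat r s e he
  refine ⟨g, mono_of_affine g fun B a b hab => ?_, hg⟩
  apply (r.e B).injective
  apply hinj B
  rw [← hg, ← hg, hab]

end Nat

end Groth.Agent.Fga.RepHom
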