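import Groth.Agent.Fga.Grass
import Groth.Agent.Fga.RepHom
import Groth.Agent.VarietyB.ProjGlue
import Groth.Prelude.Def_CohB1
import Mathlib.LinearAlgebra.Matrix.Adjugate

/-!
# The Plücker morphism

A scheme representing the Grassmannian functor has a monomorphism to projective space.
-/

universe u v w

open CategoryTheory AlgebraicGeometry Limits HomogeneousLocalization

namespace Groth.Agent.Fga.Plucker

open Groth.Agent.Fga.GrassBasic Groth.Agent.Fga.GrassChart Groth.Agent.Fga.RingFunBasic
  Groth.Agent.Fga.RingFunRep Groth.Agent.Fga.Grass Groth.Agent.VarietyB.ProjHom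

set_option linter.unusedSectionVars false

variable {ι : Type} [Fintype ι] [DecidableEq ι] {d : ℕ} {N : ℕ} (j : (Fin d → ι) → Fin (N + 1))

section Coord

variable {B C : Type*} [CommRing B] [CommRing C]

/-- Plücker coordinates. -/
noncomputable def plu (a : Matrix (Fin d) ι B) : Fin (N + 1) → B :=
  Function.extend j (fun e => (a.submatrix id e).det) 0

theorem plu_apply (hj : Function.Injective j) (a : Matrix (Fin d) ι B) (e : Fin d → ι) :
    plu j a (j e) = (a.submatrix id e).det := hj.extend_apply _ _ _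

theorem plu_apply' (a : Matrix (Fin d) ι B) (n : Fin (N + 1)) (h : ¬ ∃ e, j e = n) : plu j a n = 0 :=
  Function.extend_apply' _ _ _ h

theorem plu_map (hj : Function.Injective j) (φ : B →+* C) (a : Matrix (Fin d) ι B) (n : Fin (N + 1)) :
    plu j (a.map φ) n = φ (plu j a n) := by
  by_cases h : ∃ e, j e = n
  · obtain ⟨e, rfl⟩ := h
    rw [plu_apply j hj, plu_apply j hj, RingHom.map_det]
    rfl
  · rw [plu_apply' j _ n h, plu_apply' j _ n h, map_zero]

theorem plu_mul (hj : Function.Injective j) (g : Matrix (Fin d) (Fin d) B) (a : Matrix (Fin d) ι B)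
    (n : Fin (N + 1)) : plu j (g * a) n = g.det * plu j a n := by
  by_cases h : ∃ e, j e = n
  · obtain ⟨e, rfl⟩ := h
    rw [plu_apply j hj, plu_apply j hj, ← Matrix.det_mul]
    congr 1
  · rw [plu_apply' j _ n h, plu_apply' j _ n h, mul_zero]

/-- The canonical map from `ULift ℤ`. -/
noncomputable def zhom (B : Type*) [CommRing B] : ULift.{u} ℤ →+* B :=
  (Int.castRingHom B).comp ULift.ringEquiv.toRingHom

theorem zhom_ext (f g : ULift.{u} ℤ →+* B) : f = g := by
  have h2 : f.comp ULift.ringEquiv.symm.toRingHom = g.comp ULift.ringEquiv.symm.toRingHom :=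
    RingHom.ext_int _ _
  ext z
  exact congrArg (fun F : ℤ →+* B => F z.down) h2

/-- The homomorphism given by the Plücker coordinates. -/
noncomputable def pluHom (a : Matrix (Fin d) ι B) : MvPolynomial (Fin (N + 1)) (ULift.{u} ℤ) →+* B :=
  MvPolynomial.eval₂Hom (zhom B) (plu j a)

@[simp] theorem pluHom_X (a : Matrix (Fin d) ι B) (n : Fin (N + 1)) :
    pluHom.{u} j a (MvPolynomial.X n) = plu j a n := by
  rw [pluHom, MvPolynomial.eval₂Hom_X']

theorem comp_pluHom (hj : Function.Injective j) (φ : B →+* C) (a : Matrix (Fin d) ι B) :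
    φ.comp (pluHom.{u} j a) = pluHom.{u} j (a.map φ) := by
  apply MvPolynomial.ringHom_ext
  · intro z
    exact congrArg (fun f : ULift.{u} ℤ →+* C => f z) (zhom_ext ((φ.comp (pluHom.{u} j a)).comp MvPolynomial.C)
      ((pluHom.{u} j (a.map φ)).comp MvPolynomial.C))
  · intro n
    rw [RingHom.comp_apply, pluHom_X, pluHom_X, plu_map j hj]

theorem pluHom_mul (hj : Function.Injective j) (g : Matrix (Fin d) (Fin d) B) (a : Matrix (Fin d) ι B)
    (n : ℕ) (f : MvPolynomial (Fin (N + 1)) (ULift.{u} ℤ)) (hf : f.IsHomogeneous n) :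
    pluHom.{u} j (g * a) f = g.det ^ n * pluHom.{u} j a f := by
  have h := Groth.Agent.VarietyB.ProjGlue.eval₂Hom_smul_of_isHomogeneous (zhom.{u} B) (plu j a) g.det hf
  rw [pluHom, pluHom, ← h]
  congr 2
  funext i
  exact plu_mul j hj g a i

/-- Two normalised matrices with the same kernel differ by an invertible matrix. -/
theorem eq_mul_of_kerM_eq {e : Fin d → ι} {a b : Matrix (Fin d) ι B} (ha : IsNorm e a)
    (h : kerM a = kerM b) : b = (b.submatrix id e) * a := by
  have key : ∀ v : ι → B, b.mulVec v = ((b.submatrix id e) * a).mulVec v := by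
    intro v
    have h1 := ha.sub_mem v
    rw [h, mem_kerM, Matrix.mulVec_sub, sub_eq_zero] at h1
    rw [h1, ← Matrix.mulVec_mulVec]
    have h2 : ∀ c : Fin d → B, b.mulVec (sec e B c) = (b.submatrix id e).mulVec c := by
      intro c
      rw [sec_apply, Matrix.mulVec_sum]
      ext k
      rw [Finset.sum_apply]
      simp only [Matrix.mulVec_smul, Matrix.mulVec_single_one, Pi.smul_apply, Matrix.col_apply, smul_eq_mul]
      rw [Matrix.mulVec, dotProduct]
      apply Finset.sum_congr rfl
      intro l _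
      rw [mul_comm]
      rfl
    exact h2 _
  ext k l
  have := congrFun (key (Pi.single l 1)) k
  rwa [Matrix.mulVec_single_one, Matrix.mulVec_single_one] at this

theorem isUnit_plu_of_isNorm (hj : Function.Injective j) {e : Fin d → ι} {a : Matrix (Fin d) ι B}
    (ha : IsNorm e a) : IsUnit (plu j a (j e)) := by
  rw [plu_apply j hj]
  have : a.submatrix id e = 1 := ha
  rw [this, Matrix.det_one]
  exact isUnit_one

theorem plu_of_isNorm (hj : Function.Injective j) {e : Fin d → ι} {a : Matrix (Fin d) ι B}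
    (ha : IsNorm e a) : plu j a (j e) = 1 := by
  rw [plu_apply j hj]
  have : a.submatrix id e = 1 := ha
  rw [this, Matrix.det_one]

/-- The entries of a normalised matrix are Plücker coordinates. -/
theorem plu_update (hj : Function.Injective j) {e : Fin d → ι} {a : Matrix (Fin d) ι B}
    (ha : IsNorm e a) (k : Fin d) (l : ι) : plu j a (j (Function.update e k l)) = a k l := by
  rw [plu_apply j hj]
  have h : a.submatrix id (Function.update e k l) = (1 : Matrix (Fin d) (Fin d) B).updateCol k (fun i => a i l) := by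
    ext i i'
    rw [Matrix.submatrix_apply, id, Matrix.updateCol_apply]
    by_cases hi : i' = k
    · subst hi; simp
    · rw [Function.update_of_ne hi, if_neg hi]
      exact congrFun (congrFun ha i) i'
  rw [h, ← Matrix.cramer_apply, Matrix.cramer_one]
  rfl

end Coord

section Aff

variable (hj : Function.Injective j) {B C : CommRingCat.{u}}

/-- The variable `X n` is homogeneous of degree one. -/
theorem X_mem (n : Fin (N + 1)) :
    (MvPolynomial.X n : MvPolynomial (Fin (N + 1)) (ULift.{u} ℤ)) ∈ CohB1.polyGrading N (ULift.{u} ℤ) 1 :=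
  MvPolynomial.isHomogeneous_X _ n

/-- The chart of projective space. -/
noncomputable def pchart (n : Fin (N + 1)) :
    Spec (CommRingCat.of (Away (CohB1.polyGrading N (ULift.{u} ℤ)) (MvPolynomial.X n))) ⟶
      CohB1.ProjSpace N (ULift.{u} ℤ) :=
  Proj.awayι (CohB1.polyGrading N (ULift.{u} ℤ)) (MvPolynomial.X n) (X_mem n) Nat.one_pos

instance (n : Fin (N + 1)) : IsOpenImmersion (pchart.{u} n) :=
  inferInstanceAs (IsOpenImmersion (Proj.awayι (CohB1.polyGrading N (ULift.{u} ℤ)) (MvPolynomial.X n) (X_mem n)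
    Nat.one_pos))

/-- The open subset `D₊(X n)`. -/
noncomputable def pOpen (n : Fin (N + 1)) : (CohB1.ProjSpace N (ULift.{u} ℤ)).Opens :=
  Proj.basicOpen (CohB1.polyGrading N (ULift.{u} ℤ)) (MvPolynomial.X n)

theorem range_pchart (n : Fin (N + 1)) :
    Set.range (pchart.{u} n) = (pOpen n : Set (CohB1.ProjSpace N (ULift.{u} ℤ))) := by
  have h := Proj.opensRange_awayι (CohB1.polyGrading N (ULift.{u} ℤ)) (MvPolynomial.X n) (X_mem n) Nat.one_pos
  exact congrArg SetLike.coe h

/-- The ring homomorphism of a matrix with unit `n`-th Plücker coordinate. -/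
noncomputable def pluAway (a : Matrix (Fin d) ι B) (n : Fin (N + 1)) (h : IsUnit (plu j a n)) :
    CommRingCat.of (Away (CohB1.polyGrading N (ULift.{u} ℤ)) (MvPolynomial.X n)) ⟶ B :=
  CommRingCat.ofHom (awayLift (CohB1.polyGrading N (ULift.{u} ℤ)) (pluHom.{u} j a) (MvPolynomial.X n)
    (by rw [pluHom_X]; exact h))

/-- The affine Plücker morphism. -/
noncomputable def toP (a : Matrix (Fin d) ι B) (n : Fin (N + 1)) (h : IsUnit (plu j a n)) :
    Spec B ⟶ CohB1.ProjSpace N (ULift.{u} ℤ) :=
  Spec.map (pluAway j a n h) ≫ pchart n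

include hj in
theorem comp_toP (φ : B ⟶ C) (a : Matrix (Fin d) ι B) (n : Fin (N + 1)) (h : IsUnit (plu j a n))
    (h' : IsUnit (plu j (a.map φ.hom) n)) : Spec.map φ ≫ toP j a n h = toP j (a.map φ.hom) n h' := by
  rw [toP, toP, ← Category.assoc, ← Spec.map_comp]
  congr 2
  ext1
  have := awayLift_comp (CohB1.polyGrading N (ULift.{u} ℤ)) (pluHom.{u} j a) (t := MvPolynomial.X n)
    (by rw [pluHom_X]; exact h) (X_mem n) φ.hom
  refine this.trans ?_
  simp only [comp_pluHom j hj]
  rfl

/-- Relation with `toProj`. -/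
theorem toP_eq_toProj (a : Matrix (Fin d) ι B) (n : Fin (N + 1)) (h : IsUnit (plu j a n)) :
    toP j a n h = toProj (CohB1.polyGrading N (ULift.{u} ℤ)) (X := Spec B)
      ((Scheme.ΓSpecIso B).inv.hom.comp (pluHom.{u} j a)) (X_mem n) Nat.one_pos (by
        rw [RingHom.comp_apply, pluHom_X]
        exact h.map (Scheme.ΓSpecIso B).inv.hom) := by
  rw [toP, toProj, ← awayLift_comp (CohB1.polyGrading N (ULift.{u} ℤ)) (pluHom.{u} j a) (t := MvPolynomial.X n)
    (by rw [pluHom_X]; exact h) (X_mem n) (Scheme.ΓSpecIso B).inv.hom]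
  rw [CommRingCat.ofHom_comp, Spec.map_comp, CommRingCat.ofHom_hom, Category.assoc, toSpecΓ_SpecMap_ΓSpecIso_inv_assoc]
  rfl

theorem toP_indep (a : Matrix (Fin d) ι B) (n n' : Fin (N + 1)) (h : IsUnit (plu j a n))
    (h' : IsUnit (plu j a n')) : toP j a n h = toP j a n' h' := by
  rw [toP_eq_toProj, toP_eq_toProj]
  exact toProj_indep (CohB1.polyGrading N (ULift.{u} ℤ)) (X := Spec B)
    ((Scheme.ΓSpecIso B).inv.hom.comp (pluHom.{u} j a)) (X_mem n) Nat.one_pos (X_mem n') Nat.one_pos _ _

include hj in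
theorem toP_twist (a : Matrix (Fin d) ι B) (g : Matrix (Fin d) (Fin d) B) (hg : IsUnit g.det) (n : Fin (N + 1))
    (h : IsUnit (plu j a n)) (h' : IsUnit (plu j (g * a) n)) : toP j (g * a) n h' = toP j a n h := by
  rw [toP, toP]
  congr 2
  ext1
  obtain ⟨u, hu⟩ := hg
  apply awayLift_twist (CohB1.polyGrading N (ULift.{u} ℤ)) (pluHom.{u} j (g * a)) (pluHom.{u} j a)
    (t := MvPolynomial.X n) _ _ (X_mem n) u
  intro m f hf
  rw [hu]
  exact pluHom_mul j hj g a m f hf

include hj in
/-- Compatibility on overlaps. -/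
theorem toP_eq_of_kerM_eq {e e' : Fin d → ι} {a b : Matrix (Fin d) ι B} (ha : IsNorm e a) (hb : IsNorm e' b)
    (h : kerM a = kerM b) :
    toP j a (j e) (isUnit_plu_of_isNorm j hj ha) = toP j b (j e') (isUnit_plu_of_isNorm j hj hb) := by
  have h1 := eq_mul_of_kerM_eq ha h
  have h2 : (b.submatrix id e).det * plu j a (j e') = 1 := by
    rw [← plu_mul j hj, ← h1, plu_of_isNorm j hj hb]
  have hg : IsUnit (b.submatrix id e).det := IsUnit.of_mul_eq_one _ h2
  have h3 : IsUnit (plu j b (j e)) := by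
    rw [h1, plu_mul j hj, plu_of_isNorm j hj ha, mul_one]
    exact hg
  rw [toP_indep j b (j e') (j e) (isUnit_plu_of_isNorm j hj hb) h3]
  have key : ∀ (b' : Matrix (Fin d) ι B) (_ : b = b') (h4 : IsUnit (plu j b' (j e))),
      toP j b (j e) h3 = toP j b' (j e) h4 := by
    rintro _ rfl _
    rfl
  rw [key _ h1 (h1 ▸ h3)]
  exact (toP_twist j hj a _ hg (j e) _ _).symm

end Aff

section Main

variable (hj : Function.Injective j) {P : Scheme.{u}} (r : Rep (grFun.{u} ι d) P)

/-- The chart of `P`. -/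
noncomputable def chart (e : Fin d → ι) : Spec (chartRing.{u} e) ⟶ P := (r.e (chartRing.{u} e)).symm (chartElt e)

theorem comp_chart {B : CommRingCat.{u}} (e : Fin d → ι) (φ : chartRing.{u} e ⟶ B) :
    r.e B (Spec.map φ ≫ chart r e) = (grFun ι d).map φ (chartElt e) := by
  rw [r.nat, chart, Equiv.apply_symm_apply]

/-- The Plücker morphism on the chart. -/
noncomputable def pluChart (e : Fin d → ι) : Spec (chartRing.{u} e) ⟶ CohB1.ProjSpace N (ULift.{u} ℤ) :=
  toP j (univMat e) (j e) (isUnit_plu_of_isNorm j hj (isNorm_univMat e))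

include hj in
theorem comp_pluChart {B : CommRingCat.{u}} (e : Fin d → ι) (φ : chartRing.{u} e ⟶ B) :
    Spec.map φ ≫ pluChart j hj e = toP j ((univMat e).map φ.hom) (j e)
      (isUnit_plu_of_isNorm j hj ((isNorm_univMat e).map φ.hom)) := by
  rw [pluChart, comp_toP j hj]

theorem pluAway_surjective (e : Fin d → ι) : Function.Surjective
    (pluAway j (univMat.{u} e) (j e) (isUnit_plu_of_isNorm j hj (isNorm_univMat e))) := by
  intro y
  obtain ⟨f, rfl⟩ := Ideal.Quotient.mk_surjective y
  -- homogenisation: it is enough to hit the generators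
  let S : Subring (chartRing.{u} e) := (pluAway j (univMat.{u} e) (j e)
    (isUnit_plu_of_isNorm j hj (isNorm_univMat e))).hom.range
  change Ideal.Quotient.mk _ f ∈ S
  induction f using MvPolynomial.induction_on with
  | C z =>
    let g₁ : ULift.{u} ℤ →+* chartRing.{u} e := (Ideal.Quotient.mk (normIdeal e)).comp MvPolynomial.C
    let g₂ : ULift.{u} ℤ →+* chartRing.{u} e :=
      (pluAway j (univMat.{u} e) (j e) (isUnit_plu_of_isNorm j hj (isNorm_univMat e))).hom.comp
          (zhom.{u} (Away (CohB1.polyGrading N (ULift.{u} ℤ)) (MvPolynomial.X (j e))))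
    have : g₁ = g₂ := zhom_ext (B := chartRing.{u} e) g₁ g₂
    refine ⟨zhom _ z, ?_⟩
    exact (congrArg (fun g : ULift.{u} ℤ →+* chartRing.{u} e => g z) this).symm
  | add p q hp hq => rw [map_add]; exact S.add_mem hp hq
  | mul_X p k hp =>
    rw [map_mul]
    refine S.mul_mem hp ?_
    obtain ⟨k, l⟩ := k
    change univMat e k l ∈ S
    rw [← plu_update j hj (isNorm_univMat e) k l]
    refine ⟨Away.mk _ (X_mem (j e)) 1 (MvPolynomial.X (j (Function.update e k l)))
      (by rw [one_smul]; exact X_mem _), ?_⟩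
    have := awayLift_mk (CohB1.polyGrading N (ULift.{u} ℤ)) (pluHom.{u} j (univMat.{u} e))
      (t := MvPolynomial.X (j e)) (by rw [pluHom_X]; exact isUnit_plu_of_isNorm j hj (isNorm_univMat e))
      (X_mem (j e)) 1 (MvPolynomial.X (j (Function.update e k l))) (by rw [one_smul]; exact X_mem _)
    have h1 : (pluHom.{u} j (univMat.{u} e)) (MvPolynomial.X (j e)) = 1 := by
      rw [pluHom_X, plu_of_isNorm j hj (isNorm_univMat e)]
    have h2 := pluHom_X j (univMat.{u} e) (j (Function.update e k l))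
    refine Eq.trans ?_ (this.trans h2)
    refine Eq.symm ((congrArg (fun y => _ * y ^ 1) h1).trans ?_)
    rw [one_pow, mul_one]
    rfl

theorem mono_pluChart (e : Fin d → ι) : Mono (pluChart.{u} j hj e) := by
  have : IsClosedImmersion (Spec.map (pluAway j (univMat.{u} e) (j e)
      (isUnit_plu_of_isNorm j hj (isNorm_univMat e)))) :=
    IsClosedImmersion.spec_of_surjective _ (pluAway_surjective j hj e)
  have : Mono (pchart.{u} (j e)) := inferInstance
  rw [pluChart, toP]
  infer_instance

theorem sup_eq_top_of_isUnit {B : Type*} [CommRing B] {e : Fin d → ι} (a : Matrix (Fin d) ι B)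
    (h : IsUnit (a.submatrix id e).det) : kerM a ⊔ coordSub B e = ⊤ := by
  rw [eq_top_iff]
  intro v _
  have h2 : ∀ c : Fin d → B, a.mulVec (sec e B c) = (a.submatrix id e).mulVec c := by
    intro c
    rw [sec_apply, Matrix.mulVec_sum]
    ext k
    rw [Finset.sum_apply]
    simp only [Matrix.mulVec_smul, Matrix.mulVec_single_one, Pi.smul_apply, Matrix.col_apply, smul_eq_mul]
    rw [Matrix.mulVec, dotProduct]
    apply Finset.sum_congr rfl
    intro l _
    rw [mul_comm]
    rfl
  let c : Fin d → B := (a.submatrix id e)⁻¹.mulVec (a.mulVec v)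
  rw [← sub_add_cancel v (sec e B c)]
  refine Submodule.add_mem_sup ?_ (by rw [← range_sec]; exact ⟨_, rfl⟩)
  rw [mem_kerM, Matrix.mulVec_sub, h2, Matrix.mulVec_mulVec, Matrix.mul_nonsing_inv _ h, Matrix.one_mulVec,
    sub_self]

include hj in
theorem preimage_pOpen {B : CommRingCat.{u}} (a : Matrix (Fin d) ι B) (n n' : Fin (N + 1))
    (h : IsUnit (plu j a n)) : toP j a n h ⁻¹ᵁ pOpen n' =
      (Spec B).basicOpen ((Scheme.ΓSpecIso B).inv.hom (plu j a n')) := by
  rw [toP_eq_toProj]
  refine (toProj_preimage_basicOpen (CohB1.polyGrading N (ULift.{u} ℤ)) (X := Spec B)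
    ((Scheme.ΓSpecIso B).inv.hom.comp (pluHom.{u} j a)) (X_mem n) Nat.one_pos _ (X_mem n') Nat.one_pos).trans ?_
  rw [RingHom.comp_apply, pluHom_X]

include hj in
theorem exists_factor {K : Type u} [Field K] (t : Spec (CommRingCat.of K) ⟶ P)
    (g : P ⟶ CohB1.ProjSpace N (ULift.{u} ℤ)) (hg : ∀ e, chart r e ≫ g = pluChart j hj e) (e : Fin d → ι)
    (z : Spec (CommRingCat.of K)) (hz : (t ≫ g) z ∈ pOpen (j e)) :
    ∃ φ : chartRing.{u} e ⟶ CommRingCat.of K, Spec.map φ ≫ chart r e = t := by
  obtain ⟨e', a, ha⟩ := exists_chart_elt (r.e _ t)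
  have h1 : Spec.map a ≫ chart r e' = t := by
    apply (r.e _).injective
    rw [comp_chart, ha]
  let M := (univMat e').map a.hom
  have hM : IsNorm e' M := (isNorm_univMat e').map a.hom
  have h2 : t ≫ g = toP j M (j e') (isUnit_plu_of_isNorm j hj hM) := by
    rw [← h1, Category.assoc, hg, comp_pluChart]
  have h3 : z ∈ (t ≫ g) ⁻¹ᵁ pOpen (j e) := hz
  rw [h2, preimage_pOpen j hj] at h3
  have h4 : plu j M (j e) ≠ 0 := by
    intro h0
    rw [h0, map_zero, Scheme.basicOpen_zero] at h3
    exact h3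
  have h5 : IsUnit (M.submatrix id e).det := by
    rw [← plu_apply j hj]
    exact isUnit_iff_ne_zero.2 h4
  have h6 := sup_eq_top_of_isUnit M h5
  have h7 : (r.e _ t).1 = kerM M := by
    rw [← ha, map_chartElt]
  rw [← h7] at h6
  obtain ⟨φ, hφ⟩ := (exists_map_chartElt_iff e (r.e _ t)).2 h6
  refine ⟨φ, ?_⟩
  apply (r.e _).injective
  rw [comp_chart, hφ]

include hj in
/-- **The Plücker morphism** is a monomorphism. -/
theorem exists_plucker (hopen : ∀ e, IsOpenImmersion (chart r e))
    (hcov : ∀ p : P, ∃ e, p ∈ Set.range (chart r e)) :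
    ∃ g : P ⟶ CohB1.ProjSpace N (ULift.{u} ℤ), Mono g ∧ ∀ e, chart r e ≫ g = pluChart j hj e := by
  obtain ⟨g, hg⟩ := RepHom.exists_glue (Y := CohB1.ProjSpace N (ULift.{u} ℤ))
    (RepProper.cover (fun e => chartRing.{u} e) (chart r) hopen hcov)
    (fun e => pluChart j hj e) (by
      intro (e : Fin d → ι) (e' : Fin d → ι) B (a : Spec B ⟶ Spec (chartRing.{u} e))
        (b : Spec B ⟶ Spec (chartRing.{u} e')) (hab : a ≫ chart r e = b ≫ chart r e')
      change a ≫ pluChart j hj e = b ≫ pluChart j hj e'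
      obtain ⟨φ, rfl⟩ := Spec.map_surjective a
      obtain ⟨ψ, rfl⟩ := Spec.map_surjective b
      have h2 := congrArg (r.e B) hab
      rw [comp_chart, comp_chart] at h2
      have h3 := congrArg Subtype.val h2
      rw [map_chartElt, map_chartElt] at h3
      rw [comp_pluChart, comp_pluChart]
      exact toP_eq_of_kerM_eq j hj ((isNorm_univMat e).map φ.hom) ((isNorm_univMat e').map ψ.hom) h3)
  have hg' : ∀ e, chart r e ≫ g = pluChart j hj e := hg
  refine ⟨g, ?_, hg'⟩
  refine RepHom.mono_of_charts (chart r) hcov g (fun e => pOpen (j e)) ?_ ?_ ?_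
  · intro e
    rw [hg']
    exact mono_pluChart j hj e
  · intro e p hp
    let t : Spec (CommRingCat.of (P.residueField p)) ⟶ P := P.fromSpecResidueField p
    have ht : ∀ x, t x = p := fun x => by
      have : t x ∈ Set.range t := ⟨x, rfl⟩
      rw [show Set.range t = {p} from P.range_fromSpecResidueField p] at this
      exact this
    let z : Spec (CommRingCat.of (P.residueField p)) := IsLocalRing.closedPoint (P.residueField p)
    obtain ⟨φ, h8⟩ := exists_factor j hj r t g hg' e z (by
      rw [Scheme.Hom.comp_apply, ht]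
      exact hp)
    refine ⟨Spec.map φ z, ?_⟩
    rw [← Scheme.Hom.comp_apply, h8]
    exact ht z
  · rintro e _ ⟨z, rfl⟩
    rw [← Scheme.Hom.comp_apply, hg']
    change pluChart j hj e z ∈ (pOpen (j e) : Set (CohB1.ProjSpace N (ULift.{u} ℤ)))
    rw [← range_pchart, pluChart, toP, Scheme.Hom.comp_apply]
    exact ⟨_, rfl⟩

end Main

end Groth.Agent.Fga.Plucker
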