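import Groth.Agent.Fga.RingFunSub
import Mathlib.AlgebraicGeometry.ValuativeCriterion
import Mathlib.AlgebraicGeometry.Noetherian
import Mathlib.AlgebraicGeometry.Morphisms.FiniteType
import Mathlib.AlgebraicGeometry.Morphisms.Proper

/-!
# Properness of schemes representing ring functors
-/

universe u v

open CategoryTheory Opposite Limits AlgebraicGeometry

namespace Groth.Agent.Fga.RepProper

set_option linter.unusedSectionVars false

open Groth.Agent.Fga.RingFunBasic Groth.Agent.Fga.RingFunRep

section Fin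

variable {P : Scheme.{u}} {ι : Type} [Finite ι] (R : ι → CommRingCat.{u}) (c : ∀ i, Spec (R i) ⟶ P)
  (hc : ∀ i, IsOpenImmersion (c i)) (hcov : ∀ p : P, ∃ i, p ∈ Set.range (c i))

/-- The open cover. -/
noncomputable def cover : P.OpenCover where
  I₀ := ι
  X i := Spec (R i)
  f := c
  mem₀ := by
    rw [Scheme.presieve₀_mem_precoverage_iff]
    exact ⟨hcov, hc⟩

include hc hcov in
theorem compactSpace : CompactSpace P := by
  have : Finite (cover R c hc hcov).I₀ := inferInstanceAs (Finite ι)
  have : ∀ i, CompactSpace ((cover R c hc hcov).X i) := fun i =>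
    inferInstanceAs (CompactSpace (Spec (R i)))
  exact Scheme.OpenCover.compactSpace (cover R c hc hcov)

include hc hcov in
theorem isLocallyNoetherian (hR : ∀ i, IsNoetherianRing (R i)) : IsLocallyNoetherian P := by
  rw [isLocallyNoetherian_iff_openCover (cover R c hc hcov)]
  intro i
  exact inferInstanceAs (IsLocallyNoetherian (Spec (R i)))

include hc hcov in
theorem locallyOfFiniteType (f : P ⟶ Spec (CommRingCat.of (ULift.{u} ℤ)))
    (hR : ∀ i (g : ULift.{u} ℤ →+* R i), g.FiniteType) : LocallyOfFiniteType f := by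
  rw [IsZariskiLocalAtSource.iff_of_openCover (P := @LocallyOfFiniteType) (cover R c hc hcov)]
  intro i
  change LocallyOfFiniteType (c i ≫ f)
  obtain ⟨φ, hφ⟩ := Spec.map_surjective (c i ≫ f)
  rw [← hφ]
  exact (HasRingHomProperty.Spec_iff (P := @LocallyOfFiniteType)).2 (hR i φ.hom)

end Fin

/-- A functor satisfying the valuative criterion. -/
def IsValProper (F : CommRingCat.{u} ⥤ Type u) : Prop :=
  ∀ (R K : Type u) [CommRing R] [IsDomain R] [ValuationRing R] [Field K] [Algebra R K] [IsFractionRing R K],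
    Function.Bijective (F.map (CommRingCat.ofHom (algebraMap R K)))

theorem isNoetherianRing_ulift : IsNoetherianRing (ULift.{u} ℤ) :=
  isNoetherianRing_of_ringEquiv ℤ ULift.ringEquiv.symm

theorem isProper_of_rep {F : CommRingCat.{u} ⥤ Type u} {P : Scheme.{u}} (r : Rep F P)
    {ι : Type} [Finite ι] (R : ι → CommRingCat.{u}) (c : ∀ i, Spec (R i) ⟶ P)
    (hc : ∀ i, IsOpenImmersion (c i)) (hcov : ∀ p : P, ∃ i, p ∈ Set.range (c i))
    (hR : ∀ i (g : ULift.{u} ℤ →+* R i), g.FiniteType) (hF : IsValProper F)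
    (f : P ⟶ Spec (CommRingCat.of (ULift.{u} ℤ))) : IsProper f := by
  have h1 := compactSpace R c hc hcov
  have hN : ∀ i, IsNoetherianRing (R i) := by
    intro i
    let g : ULift.{u} ℤ →+* R i := (Int.castRingHom (R i)).comp ULift.ringEquiv.toRingHom
    let _ := g.toAlgebra
    have : Algebra.FiniteType (ULift.{u} ℤ) (R i) := hR i g
    have := isNoetherianRing_ulift.{u}
    exact Algebra.FiniteType.isNoetherianRing (ULift.{u} ℤ) (R i)
  have h2 := isLocallyNoetherian R c hc hcov hN
  have h3 := locallyOfFiniteType R c hc hcov f hR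
  have h4 : QuasiCompact f := by
    rw [quasiCompact_iff_compactSpace]
    exact h1
  have h5 : QuasiSeparated f := by
    rw [quasiSeparated_iff_quasiSeparatedSpace]
    infer_instance
  apply IsProper.of_valuativeCriterion
  intro S
  have hb := hF S.R S.K
  obtain ⟨x, hx⟩ := hb.2 (r.e _ S.i₁)
  refine ⟨⟨⟨(r.e _).symm x, ?_, specULiftZIsTerminal.hom_ext _ _⟩⟩, ?_⟩
  · apply (r.e _).injective
    rw [r.nat, Equiv.apply_symm_apply, hx]
  · rintro ⟨l, hl, hl'⟩
    ext1
    apply (r.e _).injective
    apply hb.1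
    rw [← r.nat, hl]
    change _ = F.map _ (r.e _ ((r.e _).symm x))
    rw [Equiv.apply_symm_apply, hx]

end Groth.Agent.Fga.RepProper
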