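import Groth.Agent.Fga.GQFun
import Groth.Agent.Fga.RepProper
import Groth.Agent.Fga.Plucker
import Mathlib.RingTheory.Flat.TorsionFree
import Mathlib.RingTheory.RingHom.FiniteType
import Mathlib.AlgebraicGeometry.ZariskisMainTheorem
import Groth.Agent.Ega3B.ProjProper

/-!
# The graded Quot scheme is projective
-/

set_option autoImplicit false

universe u v w

open CategoryTheory AlgebraicGeometry

namespace Groth.Agent.Fga.GQProper

set_option linter.unusedSectionVars false

open Groth.Agent.Fga.GrassBasic Groth.Agent.Fga.GrassChart Groth.Agent.Fga.GQData Groth.Agent.Fga.Grass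
  Groth.Agent.Fga.RingFunBasic Groth.Agent.Fga.RingFunRep Groth.Agent.Fga.RingFunSub Groth.Agent.Fga.GQFun
  Groth.Agent.Fga.RepProper

open TensorProduct nonZeroDivisors

section FiniteType

variable {σ : Type} {D : GData σ} {h : ℕ → ℕ}

/-- Finite type over `ℤ`. -/
def FT (R : CommRingCat.{u}) : Prop := ∀ g : ULift.{u} ℤ →+* R, g.FiniteType

theorem FT.of_one {R : CommRingCat.{u}} (g : ULift.{u} ℤ →+* R) (hg : g.FiniteType) : FT R := by
  intro g'
  have : g' = g := Plucker.zhom_ext g' g
  rw [this]
  exact hg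

theorem FT.quot {R : CommRingCat.{u}} (hR : FT R) (I : Ideal R) : FT (CommRingCat.of (R ⧸ I)) := by
  let g0 : ULift.{u} ℤ →+* R := Plucker.zhom R
  exact FT.of_one (R := CommRingCat.of (R ⧸ I)) ((Ideal.Quotient.mk I).comp g0)
    (RingHom.FiniteType.comp_surjective (hR g0) Ideal.Quotient.mk_surjective)

theorem FT.away {R : CommRingCat.{u}} (hR : FT R) (s : R) : FT (RingFunBasic.away R s) := by
  let g0 : ULift.{u} ℤ →+* R := Plucker.zhom R
  exact FT.of_one (R := RingFunBasic.away R s) ((algebraMap R (Localization.Away s)).comp g0)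
    (RingHom.FiniteType.comp (RingHom.finiteType_holdsForLocalizationAway (Localization.Away s) s) (hR g0))

theorem FT.mv (κ : Type) [Finite κ] : FT (CommRingCat.of (MvPolynomial κ (ULift.{u} ℤ))) :=
  FT.of_one (R := CommRingCat.of (MvPolynomial κ (ULift.{u} ℤ))) MvPolynomial.C (RingHom.finiteType_algebraMap.2
    (inferInstanceAs (Algebra.FiniteType (ULift.{u} ℤ) (MvPolynomial κ (ULift.{u} ℤ)))))

theorem finiteType_qRing (e : Fin (h 0) → D.J 0) (s : chartRing.{u} e) : FT (qRing.{u} e s) :=
  (((FT.mv (Fin (h 0) × D.J 0)).quot (normIdeal.{u} e)).away s).quot (locIdeal.{u} e s)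

end FiniteType

section Val

variable {R K : Type u} [CommRing R] [IsDomain R] [Field K] [Algebra R K] [IsFractionRing R K]

theorem mem_of_torsionFree {ι : Type*} [Finite ι] (L : Submodule R (ι → R)) [Module.Flat R ((ι → R) ⧸ L)]
    (v : ι → R) (hv : (fun i => algebraMap R K (v i)) ∈ bc (algebraMap R K) L) : v ∈ L := by
  obtain ⟨s, hs, h⟩ := (piMap_mem_bc_iff (nonZeroDivisors R) L v).1 hv
  rw [← Submodule.Quotient.mk_eq_zero] at h ⊢
  rw [Submodule.Quotient.mk_smul] at h
  exact (smul_eq_zero_iff_right (nonZeroDivisors.ne_zero hs)).1 h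

/-- Saturation of a subspace. -/
def satK {ι : Type*} (M : Submodule K (ι → K)) : Submodule R (ι → R) :=
  (M.restrictScalars R).comap (piMap R K ι)

theorem mem_satK {ι : Type*} {M : Submodule K (ι → K)} {v : ι → R} :
    v ∈ satK M ↔ (fun i => algebraMap R K (v i)) ∈ M := Iff.rfl

theorem bc_satK {ι : Type*} [Finite ι] (M : Submodule K (ι → K)) : bc (algebraMap R K) (satK (R := R) M) = M := by
  apply le_antisymm
  · rw [bc_le_iff]
    intro v hv
    exact hv
  · intro w hw
    obtain ⟨⟨s, hs⟩, hk⟩ := IsLocalization.exist_integer_multiples_of_finite (nonZeroDivisors R) w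
    choose v hv using hk
    rw [mem_bc_localization_iff (nonZeroDivisors R)]
    refine ⟨s, hs, v, ?_, ?_⟩
    · rw [mem_satK]
      have : (fun i => algebraMap R K (v i)) = algebraMap R K s • w := by
        ext i
        change algebraMap R K (v i) = algebraMap R K s * w i
        rw [hv i]
        exact Algebra.smul_def _ _
      rw [this]
      exact M.smul_mem _ hw
    · ext i
      change algebraMap R K s * w i = algebraMap R K (v i)
      rw [hv i]
      exact (Algebra.smul_def _ _).symm

theorem isTorsionFree_satK {ι : Type*} (M : Submodule K (ι → K)) :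
    Module.IsTorsionFree R ((ι → R) ⧸ satK (R := R) M) := by
  rw [Submodule.isTorsionFree_iff_torsion_eq_bot, eq_bot_iff]
  intro x hx
  obtain ⟨v, rfl⟩ := Submodule.Quotient.mk_surjective _ x
  obtain ⟨⟨s, hs⟩, h⟩ := (Submodule.mem_torsion_iff _).1 hx
  rw [Submodule.mem_bot, Submodule.Quotient.mk_eq_zero, mem_satK]
  have h1 : (Submodule.Quotient.mk (s • v) : (ι → R) ⧸ satK (R := R) M) = 0 := h
  rw [Submodule.Quotient.mk_eq_zero, mem_satK] at h1
  have h2 : (fun i => algebraMap R K ((s • v) i)) = algebraMap R K s • fun i => algebraMap R K (v i) := by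
    ext i; simp
  rw [h2] at h1
  have h3 : algebraMap R K s ≠ 0 := by
    intro h0
    exact nonZeroDivisors.ne_zero hs ((IsFractionRing.injective R K) (by rw [h0, map_zero]))
  exact (M.smul_mem_iff h3).1 h1

theorem isQuotRank_satK [ValuationRing R] {ι : Type*} [Finite ι] (M : Submodule K (ι → K)) (c : ℕ)
    (hM : IsQuotRank c M) : IsQuotRank c (satK (R := R) M) := by
  have h1 := isTorsionFree_satK (R := R) M
  have h2 : Module.Flat R ((ι → R) ⧸ satK (R := R) M) := by
    rw [Module.Flat.flat_iff_torsion_eq_bot_of_isBezout, ← Submodule.isTorsionFree_iff_torsion_eq_bot]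
    exact h1
  have h3 : Module.Free R ((ι → R) ⧸ satK (R := R) M) := Module.free_of_flat_of_isLocalRing
  refine ⟨inferInstance, fun p => ?_⟩
  rw [Module.rankAtStalk_eq_finrank_of_free]
  have e := (isBaseChange_quotMap (C := K) (piMap R K ι) (isBaseChange_piMap R K ι) (satK (R := R) M)).equiv
  have e1 := e.finrank_eq
  rw [Module.finrank_baseChange] at e1
  have h4 := hM.rank (IsLocalRing.closedPoint K)
  rw [Module.rankAtStalk_eq_finrank_of_free] at h4
  simp only [Pi.natCast_apply, Nat.cast_id] at h4 ⊢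
  rw [e1, ← h4]
  have h5 : Submodule.span K (piMap R K ι '' (satK (R := R) M : Set (ι → R))) = M := bc_satK M
  rw [h5]

end Val

section Main

variable {σ : Type} {D : GData σ} {h : ℕ → ℕ}

theorem isValProper_gq (hD : FieldGen.{u} D h) : IsValProper (gq.{u} D h) := by
  intro R K _ _ _ _ _ _
  constructor
  · intro x y hxy
    have h1 : bc (algebraMap R K) x.1.1 = bc (algebraMap R K) y.1.1 :=
      congrArg (fun z => z.1.1) hxy
    have hx := x.1.2.proj
    have hy := y.1.2.proj
    apply Subtype.ext
    apply Subtype.ext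
    apply le_antisymm
    · intro v hv
      apply mem_of_torsionFree (K := K)
      rw [← h1]
      exact mem_bc_of_mem _ hv
    · intro v hv
      apply mem_of_torsionFree (K := K)
      rw [h1]
      exact mem_bc_of_mem _ hv
  · intro x
    let M : ∀ k, Submodule K (D.J k → K) := G D x.1.1
    have hM : ∀ k, IsQuotRank (h k) (M k) := x.2
    let L : ∀ k, Submodule R (D.J k → R) := fun k => satK (M k)
    have hL : FamPt D h L := by
      refine ⟨fun k => isQuotRank_satK _ _ (hM k), fun k => ?_⟩
      refine iSup_le fun i => ?_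
      rw [Submodule.map_le_iff_le_comap]
      intro v hv
      change (fun t => algebraMap R K (mul D R i k v t)) ∈ M (k + 1)
      rw [mul_map]
      exact Submodule.mem_iSup_of_mem i ⟨_, hv, rfl⟩
    have hG : ∀ k, L k = G D (L 0) k := fun k => hL.eq_G hD k
    refine ⟨⟨⟨L 0, hL.rank 0⟩, fun k => ?_⟩, ?_⟩
    · change IsQuotRank (h k) (G D (L 0) k)
      rw [← hG]
      exact hL.rank k
    · apply Subtype.ext
      apply Subtype.ext
      change bc (algebraMap R K) (L 0) = x.1.1
      exact bc_satK _

/-- **The graded Quot scheme** is a closed subscheme of a projective space. -/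
theorem exists_gq [Finite σ] (hD : FieldGen.{u} D h) :
    ∃ (P : Scheme.{u}) (_ : Rep (gq.{u} D h) P) (N : ℕ) (c : P ⟶ CohB1.ProjSpace N (ULift.{u} ℤ)),
      IsClosedImmersion c := by
  obtain ⟨P, r, ι, _, R, c, hc, hcov, hR⟩ := exists_rep_gq.{u} D h
  obtain ⟨Gr, rG, hG1, hG2⟩ := exists_grass.{u} (D.J 0) (h 0)
  -- the inclusion in the Grassmannian
  obtain ⟨i, hi, -⟩ := RepHom.exists_mono_of_nat r rG (fun B x => x.1) (fun φ x => rfl)
    (fun B => Subtype.val_injective)
  -- Plücker
  let N := Fintype.card (Fin (h 0) → D.J 0)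
  let j : (Fin (h 0) → D.J 0) → Fin (N + 1) := fun e => Fin.castSucc (Fintype.equivFin _ e)
  have hj : Function.Injective j := (Fin.castSucc_injective _).comp (Fintype.equivFin _).injective
  obtain ⟨g, hg, -⟩ := Plucker.exists_plucker j hj rG hG1 hG2
  refine ⟨P, r, N, i ≫ g, ?_⟩
  rw [IsClosedImmersion.iff_isProper_and_mono]
  refine ⟨?_, inferInstance⟩
  have h1 : IsProper ((i ≫ g) ≫ CohB1.ProjSpace.toSpec N (ULift.{u} ℤ)) := by
    apply isProper_of_rep r R c hc hcov
    · intro k
      obtain ⟨e, s, hs⟩ := hR k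
      rw [hs]
      exact fun g => finiteType_qRing e s g
    · exact isValProper_gq hD
  have h2 : IsProper (CohB1.ProjSpace.toSpec N (ULift.{u} ℤ)) := Ega3B.ProjProper.isProper_toSpec N _
  exact IsProper.of_comp (i ≫ g) (CohB1.ProjSpace.toSpec N (ULift.{u} ℤ))

end Main

end Groth.Agent.Fga.GQProper
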