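import Groth.Agent.Fga.HilbClosed
import Groth.Agent.Fga.QD1Hilb
import Groth.Agent.Fga.QA6
import Groth.Agent.Fga.ClosedSub

/-!
# Families contained in `X` form a closed subscheme of the Hilbert scheme of `P^n_S`
-/

set_option autoImplicit false
universe u

open CategoryTheory CategoryTheory.Limits AlgebraicGeometry MvPolynomial CohB1

namespace Groth.Agent.Fga.HilbClosedCond

open HilbClosed QD1Hilb Picfga.IdealGlue

/-- The input from the algebra of flat families (QA4). -/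
def PieceHyp (n : ℕ) : Prop := ∀ (A : Type u) [CommRing A] [IsNoetherianRing A]
    (K : Submodule (MvPolynomial (Fin (n + 1)) A) (QA0.W (Fin (n + 1)) Unit A)), QA0.IsQuotPt K →
    ∃ m : ℕ, ∀ d, m ≤ d →
      Module.Projective A (QA0.Wd (Fin (n + 1)) Unit A d ⧸ (QA0.pc K d).submoduleOf (QA0.Wd (Fin (n + 1)) Unit A d)) ∧
      ∀ (B : Type u) [CommRing B] [IsNoetherianRing B] (φ : A →+* B),
        ∀ w ∈ QA0.pc (QA0.bcSat φ K) d, w ∈ QA0.bc φ K

section Cond

variable {X Y S : Scheme.{u}} (c : X ⟶ Y) [IsClosedImmersion c] (f : Y ⟶ S) {H : Over S} (Z : FGA.HilbSet f H)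

/-- The family pulled back along `g` is contained in `X_T`. -/
def Cond {T : Over S} (g : T ⟶ H) : Prop := (cT c f T).ker ≤ FGA.hilbPull f g Z.1

variable {c f Z}

theorem Cond.comp {T T' : Over S} {g : T ⟶ H} (h : Cond c f Z g) (a : T' ⟶ T) : Cond c f Z (a ≫ g) := by
  unfold Cond at h ⊢
  rw [ker_cT c f a, hilbPull_comp, RelCart.hilbPull_eq_comap f a]
  exact Scheme.IdealSheafData.comap_mono _ h

theorem cond_iff_of_iso {T T' : Over S} (a : T' ⟶ T) [IsIso a] (g : T ⟶ H) :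
    Cond c f Z (a ≫ g) ↔ Cond c f Z g := by
  refine ⟨fun h => ?_, fun h => h.comp a⟩
  have := h.comp (inv a)
  rwa [IsIso.inv_hom_id_assoc] at this

theorem cond_of_cover {T : Over S} (g : T ⟶ H)
    (h : ∀ t : T.left, ∃ (V : Over S) (j : V ⟶ T), IsOpenImmersion j.left ∧ t ∈ Set.range j.left ∧
      Cond c f Z (j ≫ g)) : Cond c f Z g := by
  unfold Cond
  rw [← inf_eq_left]
  refine ext_of_forall_exists fun y => ?_
  obtain ⟨V, j, hj, ⟨v, hv⟩, hc⟩ := h (PicF.XTproj f T y)
  have hop : IsOpenImmersion (PicF.XTmap f j) :=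
    MorphismProperty.of_isPullback (P := @IsOpenImmersion) (RelCart.isPullback_XTmap f j).flip hj
  obtain ⟨z, hz, -⟩ := Scheme.exists_preimage_of_isPullback (RelCart.isPullback_XTmap f j) y v hv.symm
  refine ⟨_, PicF.XTmap f j, hop, z, hz, ?_⟩
  rw [comap_inf_of_isOpenImmersion, inf_eq_left, ← ker_cT c f j, ← RelCart.hilbPull_eq_comap f j,
    ← hilbPull_comp]
  exact hc

end Cond

section Proj

variable {X S : Scheme.{u}} {n : ℕ} (c : X ⟶ ProjSpaceOver n S) [IsClosedImmersion c]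

/-- The submodule of `W (Fin (n+1)) Unit A` of the closed subscheme `X_A` of `P^n_A`. -/
noncomputable def N {A : Type u} [CommRing A] (t : Spec (CommRingCat.of A) ⟶ S) :
    Submodule (MvPolynomial (Fin (n + 1)) A) (QA0.W (Fin (n + 1)) Unit A) :=
  K t (cT c (ProjSpaceOver.toBase n S) (Over.mk t)).ker

theorem N_bc {A B : Type u} [CommRing A] [CommRing B] (φ : A →+* B) (t : Spec (CommRingCat.of A) ⟶ S)
    (t' : Spec (CommRingCat.of B) ⟶ S) (g : Over.mk t' ⟶ Over.mk t)
    (hg : g.left = Spec.map (CommRingCat.ofHom φ)) : N c t' = QA0.bcSat φ (N c t) := by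
  unfold N
  rw [ker_cT c _ g, K_comap_XTmap φ t t' g hg]

theorem cond_iff {H : Over S} (Z : FGA.HilbSet (ProjSpaceOver.toBase n S) H) {A B : Type u} [CommRing A]
    [CommRing B] (φ : A →+* B) (t : Spec (CommRingCat.of A) ⟶ S)
    (t' : Spec (CommRingCat.of B) ⟶ S) (g : Over.mk t' ⟶ Over.mk t)
    (hg : g.left = Spec.map (CommRingCat.ofHom φ)) (v : Over.mk t ⟶ H) :
    Cond c _ Z (g ≫ v) ↔
      QA0.bc φ (N c t) ≤ QA0.bcSat φ (K t (FGA.hilbPull (ProjSpaceOver.toBase n S) v Z.1)) := by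
  unfold Cond
  rw [← K_le_iff, hilbPull_comp, K_hilbPull φ t t' g hg]
  change N c t' ≤ _ ↔ _
  rw [N_bc c φ t t' g hg]
  constructor
  · exact fun h => (QA0.le_sat _).trans h
  · intro h
    refine (QA0.sat_mono h).trans ?_
    exact QA0.isSat_sat _

theorem isClosedCond (hp : PieceHyp.{u} n) {H : Over S} [IsLocallyNoetherian H.left]
    (Z : FGA.HilbSet (ProjSpaceOver.toBase n S) H) :
    ClosedSub.IsClosedCond H.left IsLocallyNoetherian
      (fun {T} h => Cond c (ProjSpaceOver.toBase n S) Z (Over.homMk h : Over.mk (h ≫ H.hom) ⟶ H)) where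
  comp {T' T} j h _ _ hh := by
    let a : Over.mk ((j ≫ h) ≫ H.hom) ⟶ Over.mk (h ≫ H.hom) := Over.homMk j (by simp)
    exact hh.comp a
  loc {T} h _ hh := by
    refine cond_of_cover _ fun t => ?_
    obtain ⟨V, hV, hc⟩ := hh t
    let a : Over.mk ((V.ι ≫ h) ≫ H.hom) ⟶ Over.mk (h ≫ H.hom) := Over.homMk V.ι (by simp)
    exact ⟨_, a, inferInstanceAs (IsOpenImmersion V.ι), ⟨⟨t, hV⟩, rfl⟩, hc⟩
  aff x := by
    obtain ⟨A, v, hv, hx, -⟩ := AlgebraicGeometry.Scheme.exists_affine_mem_range_and_range_subset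
      (X := H.left) (x := x) (U := ⊤) trivial
    have hA : IsNoetherianRing A := by
      rw [← isLocallyNoetherian_Spec]
      exact isLocallyNoetherian_of_isOpenImmersion v
    let t : Spec A ⟶ S := v ≫ H.hom
    let v' : Over.mk t ⟶ H := Over.homMk v
    let K₀ := K (A := A) t (FGA.hilbPull (ProjSpaceOver.toBase n S) v' Z.1)
    have hK : QA0.IsQuotPt K₀ := (isQuotPt_K_iff (A := A) t _).2 (mem_hilbPull _ v' Z)
    obtain ⟨m, hm⟩ := hp A K₀ hK
    obtain ⟨m', hm'⟩ := QA6.exists_ideal_of_projective (N := N c (A := A) t) hK.isHom (K_isHom (A := A) t _)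
      ⟨m, fun d hd => (hm d hd).1⟩
    refine ⟨A, v, hv, hx, QA6.valIdeal K₀ (N c (A := A) t) (max m m'), fun B φ hB => ?_⟩
    have hB' : IsNoetherianRing B := by rwa [isLocallyNoetherian_Spec] at hB
    rw [← hm' (max m m') (le_max_right _ _) φ.hom ((hm _ (le_max_left _ _)).2 B φ.hom)]
    let g : Over.mk ((Spec.map φ ≫ v) ≫ H.hom) ⟶ Over.mk t := Over.homMk (Spec.map φ) (by simp [t])
    exact cond_iff c Z φ.hom t _ g rfl v'

/-- **Hilbert schemes of closed subschemes of `P^n_S`**, from that of `P^n_S`. -/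
theorem exists_closed_rep (hp : PieceHyp.{u} n) {H : Over S}
    {Z : FGA.HilbSet (ProjSpaceOver.toBase n S) H}
    (hZ : FGA.HilbRepresentedBy (ProjSpaceOver.toBase n S) H Z) :
    ∃ (H' : Over S) (j : H' ⟶ H) (Z' : FGA.HilbSet (c ≫ ProjSpaceOver.toBase n S) H'),
      IsClosedImmersion j.left ∧ FGA.HilbRepresentedBy (c ≫ ProjSpaceOver.toBase n S) H' Z' ∧
      ∀ (T : Over S) [IsLocallyNoetherian T.left] (g : T ⟶ H),
        (∃ g' : T ⟶ H', g' ≫ j = g) ↔ Cond c _ Z g := by
  have := hZ.1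
  obtain ⟨Z₁, i, hi, hN, hP, hPi⟩ := ClosedSub.exists_closed (ClosedSub.TestClass.noetherian H.left)
    (isClosedCond c hp Z)
  let H' : Over S := Over.mk (i ≫ H.hom)
  let j : H' ⟶ H := Over.homMk i
  have hj : ∀ (T : Over S) [IsLocallyNoetherian T.left] (g : T ⟶ H),
      (∃ g' : T ⟶ H', g' ≫ j = g) ↔ Cond c _ Z g := by
    intro T _ g
    let a : Over.mk (g.left ≫ H.hom) ⟶ T := Over.homMk (𝟙 _) (by simp)
    have ha : IsIso a := by
      have : IsIso ((Over.forget S).map a) := inferInstanceAs (IsIso (𝟙 T.left))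
      exact isIso_of_reflects_iso a (Over.forget S)
    rw [← cond_iff_of_iso a g]
    have e : a ≫ g = (Over.homMk g.left : Over.mk (g.left ≫ H.hom) ⟶ H) := by
      ext1
      simp [a]
    rw [e, hPi g.left inferInstance]
    constructor
    · rintro ⟨g', rfl⟩
      exact ⟨g'.left, rfl⟩
    · rintro ⟨g', hg'⟩
      refine ⟨Over.homMk g' (by
        change g' ≫ i ≫ H.hom = T.hom
        rw [← Category.assoc, hg', Over.w g]), ?_⟩
      ext1
      exact hg'
  have hN' : IsLocallyNoetherian H'.left := hN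
  have hmono : Mono j := by
    have : Mono j.left := inferInstanceAs (Mono i)
    exact (Over.forget S).mono_of_mono_map this
  obtain ⟨Z', -, hZ'⟩ := represented_closed c _ hZ j (fun T _ g => hj T g)
  exact ⟨H', j, Z', hi, hZ', hj⟩

end Proj

end Groth.Agent.Fga.HilbClosedCond
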