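import Groth.Agent.Fga.PathLemma

/-!
# The numerical path argument with one coherent ideal

`path_ideal`: if `2 χ(J ⊗ A^a L^b) = P a² + s a + m b + t`, `P > 0`, then `m = 0`.
-/

set_option autoImplicit false

namespace Groth.Agent.Fga.HodgePath

open Groth.Agent.Fga.PathLemma

/-- walking along a segment -/
theorem walk {h0 h2 χ : ℤ → ℤ} {K C : ℤ} (hχ : ∀ j, χ j ≤ h0 j + h2 j) (n : ℕ)
    (hstep : ∀ j : ℕ, j < n → 0 < h0 j → h2 (j + 1) ≤ K) (hC : 0 ≤ C)
    (hbig : ∀ j : ℕ, j ≤ n → K + C < χ j) (h : 0 < h0 0) : 0 < h0 n ∧ (0 < n → C < h0 n) := by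
  induction n with
  | zero => exact ⟨h, fun h => absurd h (lt_irrefl _)⟩
  | succ n ih =>
    have h1 := ih (fun j hj => hstep j (hj.trans n.lt_succ_self)) (fun j hj => hbig j (hj.trans n.le_succ))
    have h2' := hstep n n.lt_succ_self h1.1
    have h3 := hbig (n + 1) le_rfl
    have h4 := hχ (n + 1)
    push_cast at h3 h4 ⊢
    have : C < h0 (n + 1) := by linarith
    exact ⟨by linarith, fun _ => this⟩

/-- a quadratic polynomial with positive leading coefficient and a large constant is large -/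
theorem quad_large {P s : ℤ} (hP : 0 < P) : ∃ c : ℤ, ∀ a : ℤ, -c ≤ P * a * a + s * a := by
  refine ⟨s * s, fun a => ?_⟩
  have h1 : a * a ≤ P * (a * a) := by nlinarith [mul_self_nonneg a]
  nlinarith [mul_self_nonneg (a + s), mul_self_nonneg a, mul_self_nonneg s, mul_self_nonneg (2 * a + s)]

/-- **Path argument with one ideal.** `h0, h2, χ` belong to `A^a L^b`, `g0, g2, ψ` to `J ⊗ A^a L^b`. -/
theorem path_ideal (h0 h2 χ g0 g2 ψ : ℤ → ℤ → ℤ) (K P u v w Q s m t : ℤ) (hP : 0 < P) (hQ : 0 < Q)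
    (hχ : ∀ a b, χ a b ≤ h0 a b + h2 a b) (hψ : ∀ a b, ψ a b ≤ g0 a b + g2 a b)
    (hstep : ∀ a b a' b', |a - a'| + |b - b'| = 1 → 0 < h0 a b → h2 a' b' ≤ K)
    (hjump : ∀ a b, 0 < h0 a b → g2 a b ≤ K)
    (gstep : ∀ a b, 0 < g0 a b → g2 (a - 1) b ≤ K)
    (hback : ∀ a b, g0 a b ≤ h0 a b)
    (hend : ∀ a b, 0 < h0 a b → h0 (-a) (-b) ≤ h0 0 0)
    (hstart : ∀ n : ℤ, 0 < n → 0 < h0 n 0)
    (hχf : ∀ a b, 2 * χ a b = P * a * a + u * a + v * b + w)
    (hψf : ∀ a b, 2 * ψ a b = Q * a * a + s * a + m * b + t) : m = 0 := by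
  by_contra hm
  set C : ℤ := max 0 (h0 0 0) with hC
  have hC0 : 0 ≤ C := le_max_left _ _
  -- choice of `b`
  obtain ⟨c, hc⟩ := quad_large (P := Q) (s := s) hQ
  set B0 : ℤ := 2 * (|K| + C) + |c| + |t| + 1 with hB0
  have hB0pos : 0 < B0 := by positivity
  obtain ⟨B, hBne, hB⟩ : ∃ B : ℤ, B ≠ 0 ∧ ∀ a, K + C < ψ a B := by
    rcases lt_or_gt_of_ne hm with hm | hm
    · refine ⟨-B0, by linarith, fun a => ?_⟩
      have h1 := hc a
      have h2' := hψf a (-B0)
      have h3 : B0 ≤ m * -B0 := by nlinarith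
      have h4 := le_abs_self c
      have h5 := neg_abs_le t
      have h6 := le_abs_self K
      linarith
    · refine ⟨B0, by linarith, fun a => ?_⟩
      have h1 := hc a
      have h2' := hψf a B0
      have h3 : B0 ≤ m * B0 := by nlinarith
      have h4 := le_abs_self c
      have h5 := neg_abs_le t
      have h6 := le_abs_self K
      linarith
  -- choice of `a = n`
  set n : ℤ := |u| + |v| * |B| + |w| + 2 * |K| + 2 * C + 1 with hn
  have hn1 : 1 ≤ n := by
    have := mul_nonneg (abs_nonneg v) (abs_nonneg B)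
    have := abs_nonneg u
    have := abs_nonneg w
    have := abs_nonneg K
    linarith
  have hbigχ : ∀ a b, |a| = n → |b| ≤ |B| → K + C < χ a b := by
    intro a b ha hb
    have e1 := hχf a b
    have e2 : a * a = n * n := by rw [← ha, abs_mul_abs_self]
    have e3 : -(|u| * n) ≤ u * a := by
      have : |u * a| ≤ |u| * n := by rw [abs_mul, ha]
      exact (abs_le.mp this).1
    have e4 : -(|v| * |B|) ≤ v * b := by
      have : |v * b| ≤ |v| * |B| := by rw [abs_mul]; exact mul_le_mul_of_nonneg_left hb (abs_nonneg _)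
      exact (abs_le.mp this).1
    have e5 := neg_abs_le w
    have e6 := le_abs_self K
    have e7 : n * n ≤ P * a * a := by rw [mul_assoc, e2]; nlinarith [mul_self_nonneg n]
    have e8 : n * n = (|u| + |v| * |B| + |w| + 2 * |K| + 2 * C + 1) * n := by rw [← hn]
    have e9 : (|v| * |B| + |w| + 2 * |K| + 2 * C + 1) * 1 ≤ (|v| * |B| + |w| + 2 * |K| + 2 * C + 1) * n :=
      mul_le_mul_of_nonneg_left hn1 (by positivity)
    nlinarith
  obtain ⟨N, hN⟩ := Int.eq_ofNat_of_zero_le (show 0 ≤ n by linarith)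
  obtain ⟨M, hM⟩ := Int.eq_ofNat_of_zero_le (abs_nonneg B)
  -- the sign of `B`
  obtain ⟨σ, hσ, hσB⟩ : ∃ σ : ℤ, |σ| = 1 ∧ B = σ * M := by
    rcases le_total 0 B with h | h
    · exact ⟨1, by simp, by rw [one_mul, ← hM, abs_of_nonneg h]⟩
    · exact ⟨-1, by simp, by rw [← hM, abs_of_nonpos h]; ring⟩
  have hσj : ∀ j : ℕ, j ≤ M → |σ * (j : ℤ)| ≤ |B| := by
    intro j hj
    rw [abs_mul, hσ, one_mul, Nat.abs_cast, hM]
    exact_mod_cast hj
  -- leg 1
  have leg1 : 0 < h0 n (σ * M) := by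
    have := walk (h0 := fun j => h0 n (σ * j)) (h2 := fun j => h2 n (σ * j)) (χ := fun j => χ n (σ * j)) (K := K) (C := C)
      (fun j => hχ _ _) M (fun j _ hj => hstep n (σ * j) n (σ * (j + 1)) (by
        rw [sub_self, abs_zero, zero_add, show σ * (j : ℤ) - σ * (j + 1) = -σ by ring, abs_neg, hσ]) hj) hC0
      (fun j hj => hbigχ _ _ (abs_of_nonneg (by linarith)) (hσj j hj)) (by simpa using hstart n (by linarith))
    exact this.1
  rw [← hσB] at leg1
  -- the jump
  have jump : 0 < g0 n B := by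
    have e1 := hjump n B leg1
    have e2 := hB n
    have e3 := hψ n B
    linarith
  -- leg 2
  have leg2 : 0 < g0 (-n) B := by
    have := walk (h0 := fun j => g0 (n - j) B) (h2 := fun j => g2 (n - j) B) (χ := fun j => ψ (n - j) B) (K := K) (C := C)
      (fun j => hψ _ _) (2 * N) (fun j _ hj => by
        have := gstep (n - j) B hj
        rwa [show n - (j : ℤ) - 1 = n - (j + 1) by ring] at this) hC0
      (fun j hj => hB _) (by simpa using jump)
    have h := this.1
    push_cast at h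
    rwa [show n - 2 * (N : ℤ) = -n by rw [hN]; ring] at h
  have back : 0 < h0 (-n) B := lt_of_lt_of_le leg2 (hback _ _)
  -- leg 3
  have hCfin : C < h0 (-n) 0 := by
    have hwalk := walk (h0 := fun j => h0 (-n) (B - σ * j)) (h2 := fun j => h2 (-n) (B - σ * j))
      (χ := fun j => χ (-n) (B - σ * j)) (K := K) (C := C)
      (fun j => hχ _ _) M (fun j _ hj => hstep (-n) (B - σ * j) (-n) (B - σ * (j + 1)) (by
        rw [sub_self, abs_zero, zero_add, show B - σ * (j : ℤ) - (B - σ * (j + 1)) = σ by ring, hσ]) hj) hC0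
      (fun j hj => hbigχ _ _ (by rw [abs_neg]; exact abs_of_nonneg (by linarith)) (by
        rw [hσB, ← mul_sub, abs_mul, hσ, one_mul, ← hσB, hM]
        rw [abs_of_nonneg (by omega)]
        omega)) (by simpa using back)
    have hM0 : 0 < M := by
      by_contra h
      have hM' : M = 0 := by omega
      exact hBne (by rw [hσB, hM']; simp)
    have := hwalk.2 hM0
    rwa [show B - σ * (M : ℤ) = 0 by rw [hσB]; ring] at this
  have e := hend n 0 (hstart n (by linarith))
  rw [neg_zero] at e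
  exact absurd (lt_of_le_of_lt (le_max_right 0 (h0 0 0)) hCfin) (not_lt.mpr e)

end Groth.Agent.Fga.HodgePath
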