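import Groth.Agent.Fga.PathLemma

/-!
# The slope of the Euler characteristic in an isotropic direction

Pure integer arithmetic for the last step of the Hodge index theorem: `slope_zero`.
`e0` is `(a, b) ↦ h⁰(M^a ⊗ N^b)`, and `h0, h2, χ` are the functions of `F ⊗ M^a ⊗ N^b`, `F ⊆ O` coherent with
`O/F` supported in dimension at most one (`F = O` or the ideal of a curve).
-/

set_option autoImplicit false

namespace Groth.Agent.Fga.HodgeSlope509

/-- Walking around: if `χ` grows in the direction `b → ∞` and in the directions `a → ±∞`, one reaches `(-n, 0)`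
from `(n, 0)`. -/
theorem walk (e0 h0 h2 χ : ℤ → ℤ → ℤ) (K : ℤ)
    (hχ : ∀ a b, χ a b ≤ h0 a b + h2 a b)
    (hstep : ∀ a b a' b', |a - a'| + |b - b'| = 1 → 0 < e0 a b → h2 a' b' ≤ K)
    (hle : ∀ a b, h0 a b ≤ e0 a b) (n B : ℕ) (hstart : 0 < e0 n 0)
    (h1 : ∀ b : ℤ, 0 ≤ b → K < χ n b) (h2' : ∀ b : ℤ, 0 ≤ b → K < χ (-(n : ℤ)) b)
    (h3 : ∀ a : ℤ, |a| ≤ (n : ℤ) → K < χ a B) : 0 < e0 (-(n : ℤ)) 0 := by
  have step : ∀ a b a' b', |a - a'| + |b - b'| = 1 → 0 < e0 a b → K < χ a' b' → 0 < e0 a' b' := by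
    intro a b a' b' e1 e2 e3
    have f1 := hstep a b a' b' e1 e2
    have f2 := hχ a' b'
    have f3 := hle a' b'
    linarith
  have up : ∀ j : ℕ, 0 < e0 n j := by
    intro j
    induction j with
    | zero => simpa using hstart
    | succ j ih =>
      push_cast
      exact step n j n (j + 1) (by simp) ih (h1 _ (by positivity))
  have left : ∀ j : ℕ, (j : ℤ) ≤ 2 * n → 0 < e0 (n - j) B := by
    intro j
    induction j with
    | zero => intro _; simpa using up B
    | succ j ih =>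
      intro hj
      push_cast at hj
      push_cast
      refine step (n - j) B (n - (j + 1)) B (by simp) (ih (by linarith)) (h3 _ ?_)
      rw [abs_le]
      constructor <;> linarith
  have hdown0 : 0 < e0 (-(n : ℤ)) B := by
    have := left (2 * n) (by push_cast; exact le_rfl)
    convert this using 2
    push_cast
    ring
  have down : ∀ j : ℕ, (j : ℤ) ≤ B → 0 < e0 (-(n : ℤ)) (B - j) := by
    intro j
    induction j with
    | zero => intro _; simpa using hdown0
    | succ j ih =>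
      intro hj
      push_cast at hj
      push_cast
      refine step (-(n : ℤ)) (B - j) (-(n : ℤ)) (B - (j + 1)) (by simp) (ih (by linarith)) (h2' _ ?_)
      linarith
  have := down B le_rfl
  rwa [sub_self] at this

/-- One half of `slope_zero`. -/
theorem slope_nonpos (e0 h0 h2 χ : ℤ → ℤ → ℤ) (K P u v w : ℤ)
    (hχ : ∀ a b, χ a b ≤ h0 a b + h2 a b)
    (hstep : ∀ a b a' b', |a - a'| + |b - b'| = 1 → 0 < e0 a b → h2 a' b' ≤ K)
    (hle : ∀ a b, h0 a b ≤ e0 a b)
    (hend : ∀ a b, 0 < e0 a b → e0 (-a) (-b) ≤ e0 0 0)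
    (hstart : ∀ n : ℤ, 0 < n → 0 < e0 n 0)
    (hquad : ∀ a b, 2 * χ a b = P * (a * a) + u * a + 2 * v * b + w)
    (hP : 0 < P) : v ≤ 0 := by
  by_contra hv
  have hv' : 1 ≤ v := by
    have := not_le.mp hv
    omega
  set M0 : ℤ := K + max 0 (e0 0 0) with hM0
  have hM0K : K ≤ M0 := by
    have := le_max_left 0 (e0 0 0)
    linarith
  obtain ⟨n, hn⟩ := Int.eq_ofNat_of_zero_le
    (show (0 : ℤ) ≤ |u| + |w| + 2 * |M0| + 2 by positivity)
  obtain ⟨B, hB⟩ := Int.eq_ofNat_of_zero_le
    (show (0 : ℤ) ≤ |u| * n + |w| + |M0| + 1 by positivity)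
  have hn2 : (2 : ℤ) ≤ n := by
    rw [← hn]
    have h1 := abs_nonneg u
    have h2 := abs_nonneg w
    have h3 := abs_nonneg M0
    linarith
  -- the two vertical sides
  have side : ∀ a : ℤ, |a| = n → ∀ b, 0 ≤ b → M0 < χ a b := by
    intro a ha b hb
    have e1 := hquad a b
    have e2 : a * a = n * n := by rw [← ha, abs_mul_abs_self]
    have e3 : -(|u| * n) ≤ u * a := by
      have : |u * a| = |u| * n := by rw [abs_mul, ha]
      exact this ▸ neg_abs_le (u * a)
    have e4 : (n : ℤ) * n ≤ P * (a * a) := by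
      rw [e2]
      have h0 : (0 : ℤ) ≤ n * n := by positivity
      nlinarith
    have e5 : 0 ≤ 2 * v * b := by positivity
    have e6 : -|w| ≤ w := neg_abs_le w
    have e7 : M0 ≤ |M0| := le_abs_self M0
    have e8 : (n : ℤ) * n = |u| * n + (|w| + 2 * |M0| + 2) * n := by
      rw [← hn]; ring
    have e9 : |w| + 2 * |M0| + 2 ≤ (|w| + 2 * |M0| + 2) * n := by
      have h1 : (0 : ℤ) ≤ |w| + 2 * |M0| + 2 := by positivity
      nlinarith
    linarith
  -- the upper side
  have top : ∀ a : ℤ, |a| ≤ n → K < χ a B := by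
    intro a ha
    have e1 := hquad a B
    have e3 : -(|u| * n) ≤ u * a := by
      have h1 : |u * a| ≤ |u| * n := by
        rw [abs_mul]
        exact mul_le_mul_of_nonneg_left ha (abs_nonneg u)
      have h2 := neg_abs_le (u * a)
      linarith
    have e4 : 0 ≤ P * (a * a) := mul_nonneg hP.le (mul_self_nonneg a)
    have e5 : 2 * (B : ℤ) ≤ 2 * v * B := by
      have h1 : (0 : ℤ) ≤ B := by positivity
      nlinarith
    have e6 : -|w| ≤ w := neg_abs_le w
    have e7 : M0 ≤ |M0| := le_abs_self M0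
    have e8 : 0 ≤ |u| * n := by positivity
    have e9 : 0 ≤ |w| := abs_nonneg w
    linarith
  have hwalk := walk e0 h0 h2 χ K hχ hstep hle n B (hstart n (by linarith))
    (fun b hb => lt_of_le_of_lt hM0K (side n (abs_of_nonneg (by positivity)) b hb))
    (fun b hb => lt_of_le_of_lt hM0K (side (-(n : ℤ)) (by rw [abs_neg]; exact abs_of_nonneg (by positivity)) b hb)) top
  -- `e0 n 0` is large
  have e1 := hend (-(n : ℤ)) 0 hwalk
  rw [neg_neg, neg_zero] at e1
  have e2 := hstep (n - 1) 0 n 0 (by simp) (hstart _ (by linarith))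
  have e3 := hχ n 0
  have e4 := hle n 0
  have e5 := side n (abs_of_nonneg (by positivity)) 0 le_rfl
  have e6 := le_max_right 0 (e0 0 0)
  linarith

/-- **The slope in an isotropic direction vanishes.** -/
theorem slope_zero (e0 h0 h2 χ : ℤ → ℤ → ℤ) (K P : ℤ)
    (hχ : ∀ a b, χ a b ≤ h0 a b + h2 a b)
    (hstep : ∀ a b a' b', |a - a'| + |b - b'| = 1 → 0 < e0 a b → h2 a' b' ≤ K)
    (hle : ∀ a b, h0 a b ≤ e0 a b)
    (hend : ∀ a b, 0 < e0 a b → e0 (-a) (-b) ≤ e0 0 0)
    (hstart : ∀ n : ℤ, 0 < n → 0 < e0 n 0)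
    (hP : ∀ a b, χ (a + 2) b - 2 * χ (a + 1) b + χ a b = P)
    (hQ : ∀ a b, χ (a + 1) (b + 1) - χ (a + 1) b - χ a (b + 1) + χ a b = 0)
    (hR : ∀ a b, χ a (b + 2) - 2 * χ a (b + 1) + χ a b = 0)
    (hPpos : 0 < P) : χ 0 1 = χ 0 0 := by
  have hquad := PathLemma.quadratic_of_second_differences χ P 0 0 hP hQ hR
  have h1 : χ 0 1 - χ 0 0 ≤ 0 := by
    refine slope_nonpos e0 h0 h2 χ K P (2 * (χ 1 0 - χ 0 0) - P) (χ 0 1 - χ 0 0) (2 * χ 0 0) hχ hstep hle hend
      hstart ?_ hPpos
    intro a b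
    rw [hquad a b]
    ring
  have h2 : -(χ 0 1 - χ 0 0) ≤ 0 := by
    refine slope_nonpos (fun a b => e0 a (-b)) (fun a b => h0 a (-b)) (fun a b => h2 a (-b))
      (fun a b => χ a (-b)) K P (2 * (χ 1 0 - χ 0 0) - P) (-(χ 0 1 - χ 0 0)) (2 * χ 0 0)
      (fun a b => hχ _ _) ?_ (fun a b => hle _ _) ?_ ?_ ?_ hPpos
    · intro a b a' b' h e
      refine hstep a (-b) a' (-b') ?_ e
      rw [← h]
      congr 1
      rw [← abs_neg (b - b')]
      congr 1
      ring
    · intro a b h
      have := hend a (-b) h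
      simpa using this
    · intro n hn
      have := hstart n hn
      simpa using this
    · intro a b
      rw [hquad a (-b)]
      ring
  linarith

end Groth.Agent.Fga.HodgeSlope509
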