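import Groth.Agent.Fga.LimSec
import Groth.Agent.Picfga.LineDescent
import Mathlib.AlgebraicGeometry.Morphisms.Separated

/-!
# Invertible modules on `X_B` descend to `X_C` for `C` a finitely generated subalgebra of `B`

`exists_descent`: `f : X ⟶ S` flat, quasi-compact and separated, `t : Spec R ⟶ S`, `B` an `R`-algebra, `L` invertible on
`X_B`.  There is a finite subset `F` of `B` such that `L` is the pullback of an invertible module on `X_C` for every
subalgebra `C` of `B` containing `F`.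
-/

set_option autoImplicit false
universe u

open CategoryTheory CategoryTheory.Limits AlgebraicGeometry TopologicalSpace
open Groth.Agent.Picfga.HilbPull Groth.Agent.Picfga.LineDescent Groth.Agent.Fdesc.LocGen
  Groth.Agent.Fga.LimSec

namespace Groth.Agent.Fga.LimPic

theorem exists_ores_eq_pow_mul {Y : Scheme.{u}} {W V : Y.Opens} (hW : IsAffineOpen W) (u : Γ(Y, W))
    (hV : V = Y.basicOpen u) (h : V ≤ W) (c : Γ(Y, V)) :
    ∃ (n : ℕ) (a : Γ(Y, W)), ores h a = ores h u ^ n * c := by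
  subst hV
  have := hW.isLocalization_basicOpen u
  obtain ⟨n, a, ha⟩ := IsLocalization.Away.surj u c
  refine ⟨n, a, ?_⟩
  have h1 : ores h a = algebraMap Γ(Y, W) Γ(Y, Y.basicOpen u) a := rfl
  have h2 : ores h u = algebraMap Γ(Y, W) Γ(Y, Y.basicOpen u) u := rfl
  rw [h1, h2, ← ha, mul_comm]

theorem basicOpen_ores {Y : Scheme.{u}} {U V : Y.Opens} (h : V ≤ U) (a : Γ(Y, U)) :
    Y.basicOpen (ores h a) = V ⊓ Y.basicOpen a :=
  Y.basicOpen_res a (homOfLE h).op

/-- Functions over whose nonvanishing loci `L` has a generator generate the unit ideal. -/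
theorem span_gen_eq_top {Y : Scheme.{u}} {L : Y.Modules} (hL : PicF.IsInvertible L) {W : Y.Opens}
    (hW : IsAffineOpen W) :
    Ideal.span {h : Γ(Y, W) | ∃ e : Γ(L, Y.basicOpen h), IsGen e} = ⊤ := by
  rw [← hW.iSup_basicOpen_eq_self_iff]
  apply le_antisymm
  · exact iSup_le fun h => Y.basicOpen_le _
  · intro x hx
    obtain ⟨V, e, hxV, he⟩ := (isInvertible_iff L).mp hL x
    obtain ⟨h, hhV, hxh⟩ := hW.exists_basicOpen_le ⟨x, hxV⟩ hx
    exact Opens.mem_iSup.mpr ⟨⟨h, res L hhV e, he.res hhV⟩, hxh⟩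

variable {X S : Scheme.{u}} (f : X ⟶ S) {R B : Type u} [CommRing R] [CommRing B] [Algebra R B]
  (t : Spec (CommRingCat.of R) ⟶ S)

/-- Descent once generators and transition functions are defined at the lower level. -/
theorem descent_of_level {XB XC : Scheme.{u}} (π : XB ⟶ XC) (hinj : ∀ V : XC.Opens, Function.Injective (π.app V))
    {L : XB.Modules} {ι : Type u} (U : ι → XC.Opens) (hU : ⨆ i, U i = ⊤) (e : ∀ i, Γ(L, π ⁻¹ᵁ U i))
    (he : ∀ i, IsGen (e i))
    (H : ∀ i j, ∃ w s : Γ(XC, U i ⊓ U j), IsUnit w ∧ ∃ γ : Γ(XB, π ⁻¹ᵁ (U i ⊓ U j)),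
      res L (π.preimage_mono inf_le_left) (e i) = γ • res L (π.preimage_mono inf_le_right) (e j) ∧
      al π le_rfl w * γ = al π le_rfl s) :
    ∃ M : XC.Modules, PicF.IsInvertible M ∧ Nonempty ((Scheme.Modules.pullback π).obj M ≅ L) := by
  choose w s hw γ hγ hs using H
  choose v hv using fun i j => (hw i j).exists_right_inv
  have hg : ∀ i j, π.app (U i ⊓ U j) (v i j * s i j) = γ i j := by
    intro i j
    rw [app_eq_al, map_mul, ← hs i j, ← mul_assoc, ← map_mul, mul_comm (v i j), hv, map_one, one_mul]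
  obtain ⟨M, m, φ, hm, -, -⟩ := Groth.Agent.Picfga.LineDescent.exists_descent π U hU e he hinj
    (fun i j => v i j * s i j) (fun i j => by rw [hg]; exact hγ i j)
  exact ⟨M, isInvertible_of_gens hU hm, ⟨φ⟩⟩

theorem exists_descent [Flat f] [QuasiCompact f] [IsSeparated f] {L : (PicF.XT f (TT t B)).Modules}
    (hL : PicF.IsInvertible L) :
    ∃ F : Set B, F.Finite ∧ ∀ C : Subalgebra R B, F ⊆ C →
      ∃ M : (PicF.XT f (TT t C)).Modules, PicF.IsInvertible M ∧
        Nonempty ((Scheme.Modules.pullback (mm f t C.val)).obj M ≅ L) := by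
  classical
  -- a finite affine cover at level `R`
  have hcpt : CompactSpace (PicF.XT f (TT t R)) := by
    have h1 : QuasiCompact (PicF.XTproj f (TT t R)) := inferInstance
    exact QuasiCompact.compactSpace_of_compactSpace (PicF.XTproj f (TT t R))
  have hsepX : (PicF.XT f (TT t R)).IsSeparated := by
    have h1 : IsSeparated (PicF.XTproj f (TT t R)) := inferInstance
    have h2 : terminal.from (PicF.XT f (TT t R)) = PicF.XTproj f (TT t R) ≫ terminal.from _ :=
      Subsingleton.elim _ _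
    have h3 : IsSeparated (terminal.from (PicF.XT f (TT t R))) := by
      rw [h2]; infer_instance
    exact ⟨h3⟩
  obtain ⟨A, hAf, hA⟩ := isCompact_iff_finite_and_eq_biUnion_affineOpens (U := (⊤ : (PicF.XT f (TT t R)).Opens)).mp
    isCompact_univ
  have : Finite A := hAf.to_subtype
  -- generators of `L`
  have hgen := fun a : A => (Ideal.span_eq_top_iff_finite _).mp
    (span_gen_eq_top hL ((a.1.2 : IsAffineOpen a.1.1).preimage (mm f t (Algebra.ofId R B))))
  choose G hG hGs using hgen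
  have hcoef := fun a : A => Submodule.mem_span_finset.mp
    ((Ideal.eq_top_iff_one _).mp (hGs a))
  choose c _ hc using hcoef
  let ι : Type u := Σ a : A, ↥(G a)
  have : Finite ι := inferInstance
  let W : ι → (PicF.XT f (TT t R)).Opens := fun i => i.1.1.1
  have hW : ∀ i, IsAffineOpen (W i) := fun i => i.1.1.2
  let h : ∀ i : ι, Γ(PicF.XT f (TT t B), mm f t (Algebra.ofId R B) ⁻¹ᵁ W i) := fun i => i.2.1
  have hgen : ∀ i : ι, ∃ e : Γ(L, (PicF.XT f (TT t B)).basicOpen (h i)), IsGen e :=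
    fun i => hG i.1 i.2.2
  choose e he using hgen
  -- transition functions
  have hγ : ∀ i j : ι, ∃ γ : Γ(PicF.XT f (TT t B), (PicF.XT f (TT t B)).basicOpen (h i) ⊓
      (PicF.XT f (TT t B)).basicOpen (h j)), res L inf_le_left (e i) = γ • res L inf_le_right (e j) :=
    fun i j => (he j).res inf_le_right |>.exists_eq _
  choose γ hγ using hγ
  have hle : ∀ i j : ι, (PicF.XT f (TT t B)).basicOpen (h i) ⊓ (PicF.XT f (TT t B)).basicOpen (h j) ≤
      mm f t (Algebra.ofId R B) ⁻¹ᵁ (W i ⊓ W j) :=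
    fun i j => inf_le_inf (Scheme.basicOpen_le _ _) (Scheme.basicOpen_le _ _)
  have hWij : ∀ i j : ι, IsAffineOpen (W i ⊓ W j) := fun i j => (hW i).inf (hW j)
  have hs : ∀ i j : ι, ∃ (n : ℕ) (s : Γ(PicF.XT f (TT t B), mm f t (Algebra.ofId R B) ⁻¹ᵁ (W i ⊓ W j))),
      ores (hle i j) s = (ores (inf_le_left.trans (Scheme.basicOpen_le _ _)) (h i) *
        ores (inf_le_right.trans (Scheme.basicOpen_le _ _)) (h j)) ^ n * γ i j := by
    intro i j
    obtain ⟨n, s, hs⟩ := exists_ores_eq_pow_mul ((hWij i j).preimage (mm f t (Algebra.ofId R B)))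
      (ores ((mm f t (Algebra.ofId R B)).preimage_mono inf_le_left) (h i) *
        ores ((mm f t (Algebra.ofId R B)).preimage_mono inf_le_right) (h j))
      (V := (PicF.XT f (TT t B)).basicOpen (h i) ⊓ (PicF.XT f (TT t B)).basicOpen (h j)) (by
        rw [Scheme.basicOpen_mul, basicOpen_ores, basicOpen_ores]
        apply le_antisymm
        · exact le_inf (le_inf (hle i j) inf_le_left) (le_inf (hle i j) inf_le_right)
        · exact inf_le_inf inf_le_right inf_le_right) (hle i j) (γ i j)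
    refine ⟨n, s, ?_⟩
    rw [hs, map_mul, ores_ores, ores_ores]
  choose n s hs using hs
  -- choose a finitely generated subalgebra
  obtain ⟨F₁, hF₁, hF₁C⟩ := exists_common f t (κ := ι) W hW h
  obtain ⟨F₂, hF₂, hF₂C⟩ := exists_common f t (κ := ι) W hW (fun i => c i.1 i.2.1)
  obtain ⟨F₃, hF₃, hF₃C⟩ := exists_common f t (κ := ι × ι) (fun k => W k.1 ⊓ W k.2)
    (fun k => hWij k.1 k.2) (fun k => s k.1 k.2)
  refine ⟨F₁ ∪ F₂ ∪ F₃, (hF₁.union hF₂).union hF₃, fun C hC => ?_⟩
  have hC₁ := hF₁C C ((Set.subset_union_left.trans Set.subset_union_left).trans hC)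
  have hC₂ := hF₂C C ((Set.subset_union_right.trans Set.subset_union_left).trans hC)
  have hC₃ := hF₃C C (Set.subset_union_right.trans hC)
  choose h' hh' using hC₁
  choose c' hc' using hC₂
  choose s' hs' using hC₃
  have hinj : ∀ V, Function.Injective ((mm f t C.val).app V) :=
    app_injective f t C.val Subtype.val_injective
  let U : ι → (PicF.XT f (TT t C)).Opens := fun i => (PicF.XT f (TT t C)).basicOpen (h' i)
  have hU : ∀ i, (mm f t C.val) ⁻¹ᵁ U i = (PicF.XT f (TT t B)).basicOpen (h i) := by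
    intro i
    rw [← hh' i, basicOpen_al]
    symm
    rw [inf_eq_right]
    have h1 := (mm f t C.val).preimage_mono ((PicF.XT f (TT t C)).basicOpen_le (h' i))
    exact h1.trans (preimage_ofId f t C (W i)).ge
  have hcover : ⨆ i, U i = ⊤ := by
    rw [eq_top_iff]
    intro x _
    have hx : (mm f t (Algebra.ofId R C)) x ∈ (⊤ : (PicF.XT f (TT t R)).Opens) := trivial
    rw [hA] at hx
    obtain ⟨a, ha⟩ := Opens.mem_iSup.mp hx
    obtain ⟨haA, hxa⟩ := Opens.mem_iSup.mp ha
    let a' : A := ⟨a, haA⟩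
    have h1 : (∑ g : ↥(G a'), c' ⟨a', g⟩ * h' ⟨a', g⟩ :
        Γ(PicF.XT f (TT t C), (mm f t (Algebra.ofId R C)) ⁻¹ᵁ (a : (PicF.XT f (TT t R)).Opens))) = 1 := by
      apply hinj
      rw [app_eq_al, app_eq_al, map_one, map_sum]
      have h2 := congr(ores (preimage_ofId f t C a.1).ge $(hc a'))
      rw [map_one, map_sum, ← Finset.sum_coe_sort (G a')] at h2
      rw [← h2]
      apply Finset.sum_congr rfl
      intro g _
      rw [map_mul, smul_eq_mul, map_mul]
      have h3 := hc' ⟨a', g⟩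
      have h4 := hh' ⟨a', g⟩
      have h5 := congrArg (ores (preimage_ofId f t C a.1).ge) h3
      have h6 := congrArg (ores (preimage_ofId f t C a.1).ge) h4
      rw [ores_al] at h5 h6
      congr 1
    have h2 := AlgebraicGeometry.iSup_basicOpen_of_span_eq_top
      (X := PicF.XT f (TT t C)) ((mm f t (Algebra.ofId R C)) ⁻¹ᵁ (a : (PicF.XT f (TT t R)).Opens))
      (Set.range (fun g : ↥(G a') => h' ⟨a', g⟩)) (by
        rw [Ideal.eq_top_iff_one, ← h1]
        exact Ideal.sum_mem _ fun g _ => Ideal.mul_mem_left _ _ (Ideal.subset_span ⟨g, rfl⟩))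
    have h3 : x ∈ (mm f t (Algebra.ofId R C)) ⁻¹ᵁ (a : (PicF.XT f (TT t R)).Opens) := hxa
    rw [← h2] at h3
    obtain ⟨y, hy⟩ := Opens.mem_iSup.mp h3
    obtain ⟨⟨g, rfl⟩, hxy⟩ := Opens.mem_iSup.mp hy
    exact Opens.mem_iSup.mpr ⟨⟨a', g⟩, hxy⟩
  -- transition functions at level `C`
  have hUle : ∀ i j, U i ⊓ U j ≤ (mm f t (Algebra.ofId R C)) ⁻¹ᵁ (W i ⊓ W j) :=
    fun i j => inf_le_inf (Scheme.basicOpen_le _ _) (Scheme.basicOpen_le _ _)
  have hUB : ∀ i j, (mm f t C.val) ⁻¹ᵁ (U i ⊓ U j) ≤ (PicF.XT f (TT t B)).basicOpen (h i) ⊓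
      (PicF.XT f (TT t B)).basicOpen (h j) := fun i j => by
    rw [← hU i, ← hU j]; rfl
  apply descent_of_level (mm f t C.val) hinj U hcover (fun i => res L (hU i).le (e i))
    (fun i => (he i).res _)
  intro i j
  have hwi : IsUnit (ores (inf_le_left : U i ⊓ U j ≤ U i) (ores ((PicF.XT f (TT t C)).basicOpen_le (h' i)) (h' i))) :=
    ((PicF.XT f (TT t C)).toRingedSpace.isUnit_res_basicOpen (h' i)).map _
  have hwj : IsUnit (ores (inf_le_right : U i ⊓ U j ≤ U j) (ores ((PicF.XT f (TT t C)).basicOpen_le (h' j)) (h' j))) :=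
    ((PicF.XT f (TT t C)).toRingedSpace.isUnit_res_basicOpen (h' j)).map _
  rw [ores_ores] at hwi hwj
  refine ⟨_, ores (hUle i j) (s' (i, j)), (hwi.mul hwj).pow (n i j), ores (hUB i j) (γ i j), ?_, ?_⟩
  · have h1 := congr(res L (hUB i j) $(hγ i j))
    rw [res_smul, res_res, res_res] at h1
    rw [res_res, res_res]
    exact h1
  · have h2 := congr(ores (hUB i j) $(hs i j))
    rw [map_mul, map_pow, map_mul, ores_ores, ores_ores, ores_ores] at h2
    rw [map_pow, map_mul, al_ores, al_ores, al_ores]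
    have e1 : al (mm f t C.val) ((le_refl ((mm f t C.val) ⁻¹ᵁ (U i ⊓ U j))).trans
        ((mm f t C.val).preimage_mono (inf_le_left.trans (Scheme.basicOpen_le _ _)))) (h' i) =
        ores ((hUB i j).trans (inf_le_left.trans (Scheme.basicOpen_le _ _))) (h i) :=
      (ores_al _ _ _ _).symm.trans (congrArg _ (hh' i))
    have e2 : al (mm f t C.val) ((le_refl ((mm f t C.val) ⁻¹ᵁ (U i ⊓ U j))).trans
        ((mm f t C.val).preimage_mono (inf_le_right.trans (Scheme.basicOpen_le _ _)))) (h' j) =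
        ores ((hUB i j).trans (inf_le_right.trans (Scheme.basicOpen_le _ _))) (h j) :=
      (ores_al _ _ _ _).symm.trans (congrArg _ (hh' j))
    have e3 : al (mm f t C.val) ((le_refl ((mm f t C.val) ⁻¹ᵁ (U i ⊓ U j))).trans
        ((mm f t C.val).preimage_mono (hUle i j))) (s' (i, j)) =
        ores ((hUB i j).trans (hle i j)) (s i j) :=
      (ores_al _ _ _ _).symm.trans (congrArg _ (hs' (i, j)))
    rw [e1, e2, e3]
    exact h2.symm

end Groth.Agent.Fga.LimPic
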