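import Groth.Agent.Picfga.HilbPull
import Groth.Agent.Fdesc.LocGen
import Mathlib.AlgebraicGeometry.Morphisms.Flat
import Mathlib.RingTheory.RingHom.Flat

/-!
# Sections of the structure sheaf of `X_B` and of `X_C` for subalgebras `C` of `B`

`f : X ⟶ S`, `t : Spec R ⟶ S`, `TT t C = (Spec C ⟶ Spec R ⟶ S)` for an `R`-algebra `C`.
* `app_injective`: for `f` flat and `C → C'` injective, `Γ(X_C, V) → Γ(X_C', π⁻¹ V)` is injective.
* `exists_lift`: sections over the preimage in `X_B` of an affine open of `X_R` come from `X_C` for every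
  subalgebra `C` of `B` containing a suitable finite set.
-/

set_option autoImplicit false
universe u

open CategoryTheory CategoryTheory.Limits AlgebraicGeometry
open Groth.Agent.Picfga.HilbPull Groth.Agent.Fdesc.LocGen

namespace Groth.Agent.Fga.LimSec

/-! ### Sections along morphisms -/

section al

variable {X Y : Scheme.{u}} (π : X ⟶ Y)

/-- `appLE` as a ring homomorphism. -/
noncomputable def al {U : Y.Opens} {W : X.Opens} (h : W ≤ π ⁻¹ᵁ U) : Γ(Y, U) →+* Γ(X, W) :=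
  (π.appLE U W h).hom

theorem al_ores {U V : Y.Opens} {W : X.Opens} (h : V ≤ U) (hW : W ≤ π ⁻¹ᵁ V) (a : Γ(Y, U)) :
    al π hW (ores h a) = al π (hW.trans (π.preimage_mono h)) a :=
  congr(($(Scheme.Hom.map_appLE π hW (homOfLE h).op)).hom a)

theorem ores_al {U : Y.Opens} {W W' : X.Opens} (hW : W ≤ π ⁻¹ᵁ U) (h : W' ≤ W) (a : Γ(Y, U)) :
    ores h (al π hW a) = al π (h.trans hW) a :=
  congr(($(Scheme.Hom.appLE_map π hW (homOfLE h).op)).hom a)

theorem app_eq_al (U : Y.Opens) (a : Γ(Y, U)) : π.app U a = al π le_rfl a := by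
  rw [← Scheme.Hom.appLE_eq_app]
  rfl

theorem basicOpen_al {U : Y.Opens} {W : X.Opens} (h : W ≤ π ⁻¹ᵁ U) (a : Γ(Y, U)) :
    X.basicOpen (al π h a) = W ⊓ π ⁻¹ᵁ Y.basicOpen a :=
  Scheme.basicOpen_appLE π W U h a

theorem al_comp {Z : Scheme.{u}} (ρ : Z ⟶ X) {U : Y.Opens} {W : X.Opens} {W' : Z.Opens}
    (h : W ≤ π ⁻¹ᵁ U) (h' : W' ≤ ρ ⁻¹ᵁ W) (a : Γ(Y, U)) :
    al ρ h' (al π h a) = al (ρ ≫ π) (h'.trans (ρ.preimage_mono h)) a :=
  congr(($(Scheme.Hom.appLE_comp_appLE ρ π U W W' h h')).hom a)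

theorem al_congr {π π' : X ⟶ Y} (e : π = π') {U : Y.Opens} {W : X.Opens} (h : W ≤ π ⁻¹ᵁ U)
    (h' : W ≤ π' ⁻¹ᵁ U) (a : Γ(Y, U)) : al π h a = al π' h' a := by
  subst e
  rfl

end al

theorem inl_injective_of_isPushout {A B C P : CommRingCat.{u}} {f : A ⟶ B} {g : A ⟶ C} {inl : B ⟶ P}
    {inr : C ⟶ P} (h : IsPushout f g inl inr) (hf : f.hom.Flat) (hg : Function.Injective g) :
    Function.Injective inl := by
  have h1 : inl = pushout.inl f g ≫ h.isoPushout.inv := by simp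
  rw [h1]
  intro x y hxy
  apply CommRingCat.inl_injective_of_flat f g hf hg
  exact (ConcreteCategory.bijective_of_isIso h.isoPushout.inv).1 hxy

section cart

variable {X Y S T : Scheme.{u}} {f : T ⟶ S} {g : Y ⟶ X} {iX : X ⟶ S} {iY : Y ⟶ T}
  (H : IsPullback g iY iX f)

include H in
theorem isPushout_of_isAffineOpen [IsAffine S] [IsAffine T] {W : X.Opens} (hW : IsAffineOpen W) :
    IsPushout (iX.appLE ⊤ W le_top) (f.appLE ⊤ ⊤ le_top) (g.appLE W (g ⁻¹ᵁ W) le_rfl)
      (iY.appLE ⊤ (g ⁻¹ᵁ W) le_top) := by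
  have h1 := isIso_pushoutSection_of_isAffineOpen H (US := ⊤) (UT := ⊤) (UX := W)
    (UY := g ⁻¹ᵁ W) le_top le_top (by simp) (isAffineOpen_top _) (isAffineOpen_top _) hW
  exact (isIso_pushoutSection_iff H (US := ⊤) (UT := ⊤) (UX := W)
    (UY := g ⁻¹ᵁ W) le_top le_top (by simp)).mp h1

include H in
theorem app_injective_of_isPullback [IsAffine S] [IsAffine T] [Flat iX]
    (hf : Function.Injective f.appTop) (V : X.Opens) : Function.Injective (g.app V) := by
  have key : ∀ (W : X.Opens), IsAffineOpen W → Function.Injective (al g (le_refl (g ⁻¹ᵁ W))) := by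
    intro W hW
    have h1 := isPushout_of_isAffineOpen H hW
    apply inl_injective_of_isPushout h1
    · exact Scheme.Hom.flat_appLE iX (isAffineOpen_top _) hW le_top
    · have : f.appLE ⊤ ⊤ le_top = f.appTop := Scheme.Hom.appLE_eq_app f
      rw [this]
      exact hf
  intro a b hab
  rw [app_eq_al, app_eq_al] at hab
  refine ores_ext (ι := {W : X.Opens // IsAffineOpen W ∧ W ≤ V}) (fun W => W.1) (fun W => W.2.2) ?_ ?_
  · intro y hy
    obtain ⟨W, hW, hyW, hWU⟩ := exists_isAffineOpen_mem_and_subset (U := V) hy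
    exact TopologicalSpace.Opens.mem_iSup.mpr ⟨⟨W, hW, hWU⟩, hyW⟩
  · intro W
    apply key _ W.2.1
    rw [al_ores, al_ores]
    have h7 := congr(ores (g.preimage_mono W.2.2) $hab)
    rwa [ores_al, ores_al] at h7

end cart

/-! ### The system `X_C` -/

variable {X S : Scheme.{u}} (f : X ⟶ S) {R : Type u} [CommRing R] (t : Spec (CommRingCat.of R) ⟶ S)

/-- `Spec C` over `S`, for an `R`-algebra `C`. -/
noncomputable abbrev TT (C : Type u) [CommRing C] [Algebra R C] : Over S :=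
  Over.mk (Spec.map (CommRingCat.ofHom (algebraMap R C)) ≫ t)

section maps

variable {C C' C'' : Type u} [CommRing C] [CommRing C'] [CommRing C''] [Algebra R C] [Algebra R C']
  [Algebra R C'']

instance isAffine_TT : IsAffine (TT t C).left := inferInstanceAs (IsAffine (Spec (CommRingCat.of C)))

/-- Functoriality of `TT`. -/
noncomputable def TTmap (a : C →ₐ[R] C') : TT t C' ⟶ TT t C :=
  Over.homMk (Spec.map (CommRingCat.ofHom a.toRingHom)) (by
    change Spec.map (CommRingCat.ofHom a.toRingHom) ≫ Spec.map (CommRingCat.ofHom (algebraMap R C)) ≫ t =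
      Spec.map (CommRingCat.ofHom (algebraMap R C')) ≫ t
    rw [← Spec.map_comp_assoc, ← CommRingCat.ofHom_comp]
    congr 3
    exact a.comp_algebraMap)

theorem TTmap_comp (a : C →ₐ[R] C') (b : C' →ₐ[R] C'') :
    TTmap t (b.comp a) = TTmap t b ≫ TTmap t a := by
  ext : 1
  change Spec.map (CommRingCat.ofHom (b.comp a).toRingHom) =
    Spec.map (CommRingCat.ofHom b.toRingHom) ≫ Spec.map (CommRingCat.ofHom a.toRingHom)
  rw [← Spec.map_comp, ← CommRingCat.ofHom_comp]
  rfl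

/-- The map `X_C' ⟶ X_C`. -/
noncomputable abbrev mm (a : C →ₐ[R] C') : PicF.XT f (TT t C') ⟶ PicF.XT f (TT t C) :=
  PicF.XTmap f (TTmap t a)

theorem mm_comp (a : C →ₐ[R] C') (b : C' →ₐ[R] C'') :
    mm f t (b.comp a) = mm f t b ≫ mm f t a := by
  rw [mm, TTmap_comp, XTmap_comp]

theorem isPullback_mm (a : C →ₐ[R] C') : IsPullback (mm f t a) (PicF.XTproj f (TT t C'))
    (PicF.XTproj f (TT t C)) (Spec.map (CommRingCat.ofHom a.toRingHom)) :=
  isPullback_XTmap f (TTmap t a)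

instance isAffineHom_mm (a : C →ₐ[R] C') : IsAffineHom (mm f t a) := by
  have h : IsAffineHom (TTmap t a).left := inferInstance
  exact MorphismProperty.of_isPullback (P := @IsAffineHom) (isPullback_mm f t a).flip h

theorem app_injective [Flat f] (a : C →ₐ[R] C') (ha : Function.Injective a)
    (V : (PicF.XT f (TT t C)).Opens) : Function.Injective ((mm f t a).app V) := by
  apply app_injective_of_isPullback (isPullback_mm f t a)
  intro x y hxy
  have h1 := Scheme.ΓSpecIso_naturality (CommRingCat.ofHom a.toRingHom)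
  have h2 := congr(($h1).hom x)
  have h3 := congr(($h1).hom y)
  simp only [CommRingCat.hom_comp, RingHom.comp_apply] at h2 h3
  apply (ConcreteCategory.bijective_of_isIso (Scheme.ΓSpecIso (CommRingCat.of C)).hom).1
  apply ha
  change (CommRingCat.ofHom a.toRingHom).hom ((Scheme.ΓSpecIso (CommRingCat.of C)).hom.hom x) =
    (CommRingCat.ofHom a.toRingHom).hom ((Scheme.ΓSpecIso (CommRingCat.of C)).hom.hom y)
  rw [← h2, ← h3]
  congr 1

/-- A scalar as a function on an open of `X_C`. -/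
noncomputable def sc (W : (PicF.XT f (TT t C)).Opens) (c : C) : Γ(PicF.XT f (TT t C), W) :=
  al (PicF.XTproj f (TT t C)) (le_top : W ≤ (PicF.XTproj f (TT t C)) ⁻¹ᵁ ⊤)
    ((Scheme.ΓSpecIso (CommRingCat.of C)).inv c)

theorem al_sc (a : C →ₐ[R] C') {W : (PicF.XT f (TT t C)).Opens} {W' : (PicF.XT f (TT t C')).Opens}
    (h : W' ≤ (mm f t a) ⁻¹ᵁ W) (c : C) : al (mm f t a) h (sc f t W c) = sc f t W' (a c) := by
  rw [sc, al_comp, al_congr (isPullback_mm f t a).w _ le_top]
  have h1 := Scheme.ΓSpecIso_inv_naturality (CommRingCat.ofHom a.toRingHom)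
  have h2 : (Scheme.ΓSpecIso (CommRingCat.of C')).inv (a c) =
      al (Spec.map (CommRingCat.ofHom a.toRingHom)) (le_top : ⊤ ≤ (Spec.map (CommRingCat.ofHom a.toRingHom)) ⁻¹ᵁ ⊤)
        ((Scheme.ΓSpecIso (CommRingCat.of C)).inv c) := by
    have h3 := congr(($h1).hom c)
    simp only [CommRingCat.hom_comp, RingHom.comp_apply] at h3
    refine Eq.trans ?_ (h3.trans ?_)
    · rfl
    · exact app_eq_al _ _ _
  rw [sc, h2, al_comp]

end maps

section lift

variable {B : Type u} [CommRing B] [Algebra R B]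

theorem mm_ofId_eq (C : Subalgebra R B) :
    mm f t (Algebra.ofId R B) = mm f t C.val ≫ mm f t (Algebra.ofId R C) := by
  rw [← mm_comp]
  congr 1

theorem preimage_ofId (C : Subalgebra R B) (W : (PicF.XT f (TT t R)).Opens) :
    mm f t (Algebra.ofId R B) ⁻¹ᵁ W = mm f t C.val ⁻¹ᵁ (mm f t (Algebra.ofId R C) ⁻¹ᵁ W) := by
  rw [mm_ofId_eq f t C, Scheme.Hom.comp_preimage]

/-- Being defined over a finitely generated subalgebra. -/
def IsDef (W : (PicF.XT f (TT t R)).Opens) (s : Γ(PicF.XT f (TT t B), mm f t (Algebra.ofId R B) ⁻¹ᵁ W)) : Prop :=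
  ∃ F : Set B, F.Finite ∧ ∀ C : Subalgebra R B, F ⊆ C →
    ∃ s' : Γ(PicF.XT f (TT t C), mm f t (Algebra.ofId R C) ⁻¹ᵁ W),
      al (mm f t C.val) (preimage_ofId f t C W).le s' = s

theorem exists_lift {W : (PicF.XT f (TT t R)).Opens} (hW : IsAffineOpen W)
    (s : Γ(PicF.XT f (TT t B), mm f t (Algebra.ofId R B) ⁻¹ᵁ W)) : IsDef f t W s := by
  have h1 := isPushout_of_isAffineOpen (isPullback_mm f t (Algebra.ofId R B)) hW
  have h2 := CommRingCat.closure_range_union_range_eq_top_of_isPushout h1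
  have h3 : s ∈ Subring.closure (Set.range ((mm f t (Algebra.ofId R B)).appLE W
      (mm f t (Algebra.ofId R B) ⁻¹ᵁ W) le_rfl) ∪
      Set.range ((PicF.XTproj f (TT t B)).appLE ⊤ (mm f t (Algebra.ofId R B) ⁻¹ᵁ W) le_top)) := by
    rw [h2]; trivial
  induction h3 using Subring.closure_induction with
  | mem x hx =>
    rcases hx with ⟨v, rfl⟩ | ⟨v, rfl⟩
    · refine ⟨∅, Set.finite_empty, fun C _ => ⟨al (mm f t (Algebra.ofId R C)) le_rfl v, ?_⟩⟩
      rw [al_comp]
      exact al_congr (mm_ofId_eq f t C).symm _ _ v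
    · obtain ⟨b, rfl⟩ := (ConcreteCategory.bijective_of_isIso (Scheme.ΓSpecIso (CommRingCat.of B)).inv).2 v
      refine ⟨{b}, Set.finite_singleton b, fun C hC => ⟨sc f t _ ⟨b, hC rfl⟩, ?_⟩⟩
      rw [al_sc]
      rfl
  | zero => exact ⟨∅, Set.finite_empty, fun C _ => ⟨0, map_zero _⟩⟩
  | one => exact ⟨∅, Set.finite_empty, fun C _ => ⟨1, map_one _⟩⟩
  | add x y _ _ hx hy =>
    obtain ⟨F, hF, h4⟩ := hx
    obtain ⟨F', hF', h5⟩ := hy
    refine ⟨F ∪ F', hF.union hF', fun C hC => ?_⟩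
    obtain ⟨x', rfl⟩ := h4 C (Set.subset_union_left.trans hC)
    obtain ⟨y', rfl⟩ := h5 C (Set.subset_union_right.trans hC)
    exact ⟨x' + y', map_add _ _ _⟩
  | neg x _ hx =>
    obtain ⟨F, hF, h4⟩ := hx
    refine ⟨F, hF, fun C hC => ?_⟩
    obtain ⟨x', rfl⟩ := h4 C hC
    exact ⟨-x', map_neg _ _⟩
  | mul x y _ _ hx hy =>
    obtain ⟨F, hF, h4⟩ := hx
    obtain ⟨F', hF', h5⟩ := hy
    refine ⟨F ∪ F', hF.union hF', fun C hC => ?_⟩
    obtain ⟨x', rfl⟩ := h4 C (Set.subset_union_left.trans hC)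
    obtain ⟨y', rfl⟩ := h5 C (Set.subset_union_right.trans hC)
    exact ⟨x' * y', map_mul _ _ _⟩

/-- Finitely many sections over finitely many opens are simultaneously defined over a finitely generated
subalgebra. -/
theorem exists_common {κ : Type*} [Finite κ] (W : κ → (PicF.XT f (TT t R)).Opens)
    (hW : ∀ i, IsAffineOpen (W i))
    (s : ∀ i, Γ(PicF.XT f (TT t B), mm f t (Algebra.ofId R B) ⁻¹ᵁ (W i))) :
    ∃ F : Set B, F.Finite ∧ ∀ C : Subalgebra R B, F ⊆ C → ∀ i,
      ∃ s' : Γ(PicF.XT f (TT t C), mm f t (Algebra.ofId R C) ⁻¹ᵁ (W i)),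
        al (mm f t C.val) (preimage_ofId f t C (W i)).le s' = s i := by
  choose F hF h using fun i => exists_lift f t (hW i) (s i)
  exact ⟨⋃ i, F i, Set.finite_iUnion hF, fun C hC i => h i C ((Set.subset_iUnion F i).trans hC)⟩

end lift

end Groth.Agent.Fga.LimSec
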