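import Groth.Agent.Fga.DVRLine
import Groth.Agent.Fga.RelCart
import Groth.Agent.Fga.UnitRestrict
import Groth.Agent.Ega3A.PicDiv

/-!
# (SEP): the Picard functor of a flat family with integral fibres over a discrete valuation ring

`pic_dvr_injective`: a class on `X_A` which is trivial on the generic fibre is trivial.
-/

set_option autoImplicit false
universe u

open CategoryTheory CategoryTheory.Limits AlgebraicGeometry Opposite TopologicalSpace
open Groth.Agent.Fdesc.LocGen Groth.Agent.Picfga.P1Def Groth.Agent.Ega3A.PicGood Groth.Agent.Ega3A.PicDiv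
open Groth.Agent

namespace Groth.Agent.Fga.PicDVR

variable {X S : Scheme.{u}} (f : X ⟶ S)

/-- The cartesian square of `X_K ⟶ X_T` over `Spec K ⟶ T ≅ Spec A`. -/
theorem isPullback_fpt (T : Over S) {A : Type u} [CommRing A] (e : T.left ≅ Spec (CommRingCat.of A))
    {K : Type u} [Field K] (φ : A →+* K) :
    IsPullback (PicF.XTmap f (fptHom T (Spec.map (CommRingCat.ofHom φ) ≫ e.inv)))
      (PicF.XTproj f (fpt T (Spec.map (CommRingCat.ofHom φ) ≫ e.inv))) (PicF.XTproj f T ≫ e.hom)
      (Spec.map (CommRingCat.ofHom φ)) := by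
  have h1 := RelCart.isPullback_XTmap f (fptHom T (Spec.map (CommRingCat.ofHom φ) ≫ e.inv))
  have h2 : IsPullback (Spec.map (CommRingCat.ofHom φ) ≫ e.inv) (𝟙 _) e.hom (Spec.map (CommRingCat.ofHom φ)) :=
    IsPullback.of_vert_isIso ⟨by simp⟩
  have h3 := h1.paste_vert h2
  have h4 : PicF.XTproj f (fpt T (Spec.map (CommRingCat.ofHom φ) ≫ e.inv)) ≫ 𝟙 (Spec (CommRingCat.of K)) =
      PicF.XTproj f (fpt T (Spec.map (CommRingCat.ofHom φ) ≫ e.inv)) := Category.comp_id _
  exact h4 ▸ h3

/-- Modules version: two invertible modules on `X_A` isomorphic on the generic fibre are isomorphic, if the special fibre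
is integral. -/
theorem nonempty_iso_of_dvr [Flat f] (T : Over S) {A : Type u} [CommRing A] [IsDomain A]
    [IsDiscreteValuationRing A] (e : T.left ≅ Spec (CommRingCat.of A))
    {κ : Type u} [Field κ] (ρ : A →+* κ) (hρ : Function.Surjective ρ)
    (hint : IsIntegral (PicF.XT f (fpt T (Spec.map (CommRingCat.ofHom ρ) ≫ e.inv))))
    {K : Type u} [Field K] [Algebra A K] [IsFractionRing A K]
    {L L' : (PicF.XT f T).Modules} (hL : PicF.IsInvertible L) (hL' : PicF.IsInvertible L')
    (h : Nonempty ((Scheme.Modules.pullback (PicF.XTmap f (fptHom T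
      (Spec.map (CommRingCat.ofHom (algebraMap A K)) ≫ e.inv)))).obj L ≅
        (Scheme.Modules.pullback (PicF.XTmap f (fptHom T
      (Spec.map (CommRingCat.ofHom (algebraMap A K)) ≫ e.inv)))).obj L')) :
    Nonempty (L ≅ L') := by
  algebraize [ρ]
  have hfl : Flat (PicF.XTproj f T) := inferInstanceAs (Flat (pullback.snd f T.hom))
  have hfl' : Flat (PicF.XTproj f T ≫ e.hom) := inferInstance
  exact DVRLine.nonempty_iso_of_generic_of_integral (PicF.XTproj f T ≫ e.hom) (κ := κ) hρ
    (isPullback_fpt f T e ρ) (isPullback_fpt f T e (algebraMap A K)) hL hL' h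

/-- (SEP) -/
theorem pic_dvr_injective [IsProper f] [Flat f] (T : Over S) {A : Type u} [CommRing A] [IsDomain A]
    [IsDiscreteValuationRing A] (e : T.left ≅ Spec (CommRingCat.of A))
    (hint : ∀ (K : Type u) [Field K] (t : Spec (CommRingCat.of K) ⟶ T.left),
      IsIntegral (PicF.XT f (fpt T t)))
    {K : Type u} [Field K] [Algebra A K] [IsFractionRing A K]
    (c : Grpsch.PicGrp.Pic (PicF.XT f T))
    (h : Grpsch.PicGrp.pull (PicF.XTmap f (fptHom T
      (Spec.map (CommRingCat.ofHom (algebraMap A K)) ≫ e.inv))) c = 1) :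
    c = 1 := by
  obtain ⟨L, hL, rfl⟩ := Grpsch.PicGrp.exists_mk c
  rw [Grpsch.PicGrp.pull_mk, Grpsch.PicGrp.mk_eq_one_iff] at h
  rw [Grpsch.PicGrp.mk_eq_one_iff]
  obtain ⟨φ⟩ := h
  refine nonempty_iso_of_dvr f T e (IsLocalRing.residue A) IsLocalRing.residue_surjective (hint _ _) (K := K) hL
    isInvertible_structureModule ⟨φ ≪≫ (Fga.UnitRestrict.pullbackUnitIso _).symm⟩

end Groth.Agent.Fga.PicDVR
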