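import Groth.Agent.Fga.QA4Gen
import Groth.Agent.Fga.GrPt

/-!
# QA4, final forms

`A : Type u` Noetherian, `K` an `A`-point of the Quot functor (`IsQuotPt K`).
`HPol Φ K` : the fibres of `K` have Hilbert polynomial `Φ` (= `HilbAsm1.HP`).
-/

set_option autoImplicit false

universe u

open MvPolynomial TensorProduct IsLocalRing

namespace Groth.Agent.Fga.QA4Fin

open QA0 QA1 QA4BC QA4Chart QA4Loc QA4Local QA4Retr QA4Main QA4Rank QA4Gen GrassBasic GrPt

section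

variable {σ ι : Type*} {A : Type u} [CommRing A] [Fintype σ] [Finite ι]

/-- The Hilbert polynomial of the fibres of `K` is `Φ`. -/
def HPol (Φ : ℤ → ℤ) (K : Submodule (MvPolynomial σ A) (W σ ι A)) : Prop :=
  ∀ (k : Type u) [Field k] (φ : A →+* k), ∃ D : ℕ, ∀ d : ℕ, D ≤ d → h (bcSat φ K) d = Φ d

lemma hf_eq_h {k : Type*} [Field k] (K : Submodule (MvPolynomial σ k) (W σ ι k)) (d : ℕ) :
    (hf K d : ℤ) = h K d := hf_eq K d

variable {K : Submodule (MvPolynomial σ A) (W σ ι A)}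

/-- the Hilbert function of a fibre -/
theorem h_bcSat (hK : IsHom K) {k : Type*} [Field k] (φ : A →+* k) (P : Ideal A) [P.IsPrime]
    (hP : RingHom.ker φ = P) (d : ℕ) : h (bcSat φ K) d = h (bcSat (algebraMap A P.ResidueField) K) d := by
  rw [← hf_eq_h, ← hf_eq_h, hf_bcSat_of_comap_eq hK φ P hP]
  rfl

/-- All conclusions of the field theorem in all fibres, for `d ≥ bd (card σ) Φ`. -/
theorem fib_bound (hK : IsQuotPt K) {Φ : ℤ → ℤ} (hP : HPol Φ K) (hΦ : Num (Fintype.card σ) Φ)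
    {d : ℕ} (hd : bd (Fintype.card σ) Φ ≤ d) {k : Type u} [Field k] (φ : A →+* k) :
    h (bcSat φ K) d = Φ d ∧ Gen (bcSat φ K) d ∧ H1 (bcSat φ K) d :=
  QA2.field_bound (hK.isHom.bc φ).sat (isSat_sat _) hΦ (hP k φ) hd

theorem fibHOne (hK : IsQuotPt K) {Φ : ℤ → ℤ} (hP : HPol Φ K) (hΦ : Num (Fintype.card σ) Φ)
    {d : ℕ} (hd : bd (Fintype.card σ) Φ ≤ d) : FibHOne K d :=
  fun P _ => (fib_bound hK hP hΦ hd (algebraMap A P.ResidueField)).2.2

/-- (QA4b) for all `d ≥ bd`, `(W/K)_d` is projective of rank `Φ d`. -/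
theorem projective_rank [IsNoetherianRing A] (hK : IsQuotPt K) {Φ : ℤ → ℤ} (hP : HPol Φ K)
    (hΦ : Num (Fintype.card σ) Φ) {d : ℕ} (hd : bd (Fintype.card σ) Φ ≤ d) :
    Module.Projective A (Md K d) ∧ ∀ p : PrimeSpectrum A, (Module.rankAtStalk (Md K d) p : ℤ) = Φ d := by
  refine ⟨projective_Md hK (fibHOne hK hP hΦ hd), fun p => ?_⟩
  rw [rankAtStalk_Md hK (fibHOne hK hP hΦ hd), fibH, hf_eq_h]
  exact (fib_bound hK hP hΦ hd _).1

/-- (QA4b) universal base change. -/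
theorem pc_bcSat [IsNoetherianRing A] (hK : IsQuotPt K) {Φ : ℤ → ℤ} (hP : HPol Φ K)
    (hΦ : Num (Fintype.card σ) Φ) {d : ℕ} (hd : bd (Fintype.card σ) Φ ≤ d) {B : Type*} [CommRing B]
    (φ : A →+* B) : pc (bcSat φ K) d = pc (bc φ K) d :=
  pc_bcSat_eq hK (fibHOne hK hP hΦ hd) φ

/-- generation. -/
theorem gen_of_fib [IsNoetherianRing A] (hK : IsQuotPt K) {d : ℕ} (hd : FibHOne K d)
    (hd' : FibHOne K (d + 1))
    (hg : ∀ (P : Ideal A) [P.IsPrime], Gen (bcSat (algebraMap A P.ResidueField) K) d) : Gen K d := by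
  refine gen_of_local hK.isHom fun P _ => ?_
  have hloc := isQuotPt_localization hK P
  have e1 : ∀ e, FibHOne K e → HOne (bcSat (algebraMap (Localization.AtPrime P)
      (ResidueField (Localization.AtPrime P))) (bc (algebraMap A (Localization.AtPrime P)) K)) e := by
    intro e he
    rw [bcSat_residueField hK]
    exact he P
  refine gen_local hloc.isHom (QA4Retr.projective_Md hloc (e1 _ hd'))
    (QA4Retr.kd_bcSat_eq hloc (e1 _ hd) _) ?_
  rw [bcSat_residueField hK]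
  exact hg P

/-- (QA4b) `K_{d+1} = Σ Xᵢ K_d` for `d ≥ bd`. -/
theorem gen [IsNoetherianRing A] (hK : IsQuotPt K) {Φ : ℤ → ℤ} (hP : HPol Φ K)
    (hΦ : Num (Fintype.card σ) Φ) {d : ℕ} (hd : bd (Fintype.card σ) Φ ≤ d) : Gen K d :=
  gen_of_fib hK (fibHOne hK hP hΦ hd) (fibHOne hK hP hΦ (hd.trans d.le_succ))
    fun _ _ => (fib_bound hK hP hΦ hd _).2.1

/-- (QA4c) invariance under specialization of the Hilbert germ. -/
theorem h_eventually_eq [IsNoetherianRing A] (hK : IsQuotPt K) {p q : PrimeSpectrum A} (hpq : p ≤ q) :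
    ∃ D : ℕ, ∀ d : ℕ, D ≤ d → h (bcSat (algebraMap A p.asIdeal.ResidueField) K) d =
      h (bcSat (algebraMap A q.asIdeal.ResidueField) K) d := by
  obtain ⟨D, hD⟩ := fibH_eventually_eq hK p.asIdeal q.asIdeal hpq
  refine ⟨D, fun d hd => ?_⟩
  rw [← hf_eq_h, ← hf_eq_h]
  exact congrArg Nat.cast (hD d hd)

/-- The Hilbert polynomial of the fibres of `K` is locally constant; it is compatible with every map to a
field. -/
theorem exists_hilbPoly [IsNoetherianRing A] (hK : IsQuotPt K) :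
    ∃ Φ : PrimeSpectrum A → (ℤ → ℤ), IsLocallyConstant Φ ∧ (∀ p, Num (Fintype.card σ) (Φ p)) ∧
      (∀ {k : Type u} [Field k] (φ : A →+* k) (p : PrimeSpectrum A), RingHom.ker φ = p.asIdeal →
        (∃ D : ℕ, ∀ d : ℕ, D ≤ d → h (bcSat φ K) d = Φ p d) ∧
        ∀ d : ℕ, bd (Fintype.card σ) (Φ p) ≤ d →
          h (bcSat φ K) d = Φ p d ∧ Gen (bcSat φ K) d ∧ H1 (bcSat φ K) d) := by
  have key : ∀ p : PrimeSpectrum A, ∃ Φ : ℤ → ℤ, Num (Fintype.card σ) Φ ∧
      ∃ D : ℕ, ∀ d : ℕ, D ≤ d → h (bcSat (algebraMap A p.asIdeal.ResidueField) K) d = Φ d := by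
    intro p
    obtain ⟨Φ, h1, h2, -⟩ := QA2.field_main (K := bcSat (algebraMap A p.asIdeal.ResidueField) K)
      (hK.isHom.bc _).sat (isSat_sat _)
    exact ⟨Φ, h1, h2⟩
  choose Φ hΦ hΦ' using key
  refine ⟨Φ, isLocallyConstant_of_le _ fun p q hpq => ?_, hΦ, ?_⟩
  · obtain ⟨D, hD⟩ := h_eventually_eq hK hpq
    obtain ⟨D₁, hD₁⟩ := hΦ' p
    obtain ⟨D₂, hD₂⟩ := hΦ' q
    refine (hΦ p).eq_of_eventually (hΦ q) ⟨((D + D₁ + D₂ : ℕ) : ℤ), fun e he => ?_⟩
    obtain ⟨e', rfl⟩ : ∃ e' : ℕ, e = e' := ⟨e.toNat, by omega⟩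
    rw [← hD₁ e' (by omega), ← hD₂ e' (by omega), hD e' (by omega)]
  · intro k _ φ p hp
    have h1 : ∃ D : ℕ, ∀ d : ℕ, D ≤ d → h (bcSat φ K) d = Φ p d := by
      obtain ⟨D, hD⟩ := hΦ' p
      exact ⟨D, fun d hd => (h_bcSat hK.isHom φ p.asIdeal hp d).trans (hD d hd)⟩
    exact ⟨h1, fun d hd => QA2.field_bound (hK.isHom.bc φ).sat (isSat_sat _) (hΦ p) h1 hd⟩

/-- For every `K` there is a bound from which on all the conclusions hold (without fixing `Φ`). -/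
theorem exists_bound [IsNoetherianRing A] (hK : IsQuotPt K) :
    ∃ m : ℕ, ∀ d, m ≤ d → FibHOne K d ∧ Module.Projective A (Md K d) ∧ Gen K d ∧
      ∀ (B : Type u) [CommRing B] (φ : A →+* B), pc (bcSat φ K) d = pc (bc φ K) d := by
  obtain ⟨Φ, hloc, hnum, hall⟩ := exists_hilbPoly hK
  have hfin : (Set.range Φ).Finite := hloc.range_finite
  obtain ⟨m, hm⟩ : ∃ m, ∀ p, bd (Fintype.card σ) (Φ p) ≤ m := by
    obtain ⟨m, hm⟩ := (hfin.image (bd (Fintype.card σ))).bddAbove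
    exact ⟨m, fun p => hm ⟨Φ p, ⟨p, rfl⟩, rfl⟩⟩
  have hfib : ∀ d, m ≤ d → ∀ (P : Ideal A) [hP : P.IsPrime],
      Gen (bcSat (algebraMap A P.ResidueField) K) d ∧ H1 (bcSat (algebraMap A P.ResidueField) K) d := by
    intro d hd P hP
    have hker : RingHom.ker (algebraMap A P.ResidueField) = P := Ideal.ker_algebraMap_residueField P
    exact ((hall (algebraMap A P.ResidueField) ⟨P, hP⟩ hker).2 d ((hm _).trans hd)).2
  refine ⟨m, fun d hd => ?_⟩
  have h1 : FibHOne K d := fun P _ => (hfib d hd P).2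
  have h2 : FibHOne K (d + 1) := fun P _ => (hfib (d + 1) (hd.trans d.le_succ) P).2
  exact ⟨h1, projective_Md hK h1, gen_of_fib hK h1 h2 fun P _ => (hfib d hd P).1,
    fun B _ φ => pc_bcSat_eq hK h1 φ⟩

end

section Small

variable {σ ι : Type} {A : Type u} [CommRing A] [Fintype σ] [Finite ι]
  {K : Submodule (MvPolynomial σ A) (W σ ι A)}

omit [Fintype σ] [Finite ι] in
lemma piece_eq_kd (K : Submodule (MvPolynomial σ A) (W σ ι A)) (d : ℕ) : piece K d = kd K d := by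
  ext w
  rw [mem_piece, mem_kd]

/-- (QA4b) -/
theorem isQuotRank_piece [IsNoetherianRing A] (hK : IsQuotPt K) {Φ : ℤ → ℤ} (hP : HPol Φ K)
    (hΦ : Num (Fintype.card σ) Φ) {d : ℕ} (hd : bd (Fintype.card σ) Φ ≤ d) :
    IsQuotRank (Φ d).toNat (piece K d) := by
  rw [piece_eq_kd]
  obtain ⟨h1, h2⟩ := projective_rank hK hP hΦ hd
  exact ⟨h1, fun p => by rw [← h2 p, Int.toNat_natCast]⟩

/-- The form used in `HilbClosedCond`. -/
theorem pieceHyp [IsNoetherianRing A] (hK : IsQuotPt K) :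
    ∃ m : ℕ, ∀ d, m ≤ d →
      Module.Projective A (Wd σ ι A d ⧸ (pc K d).submoduleOf (Wd σ ι A d)) ∧
      ∀ (B : Type u) [CommRing B] [IsNoetherianRing B] (φ : A →+* B),
        ∀ w ∈ pc (bcSat φ K) d, w ∈ bc φ K := by
  obtain ⟨m, hm⟩ := exists_bound hK
  refine ⟨m, fun d hd => ?_⟩
  obtain ⟨-, h1, -, h3⟩ := hm d hd
  refine ⟨?_, fun B _ _ φ w hw => ?_⟩
  · change Module.Projective A (Wd σ ι A d ⧸ piece K d)
    rw [piece_eq_kd]
    exact h1
  · rw [h3 B φ] at hw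
    exact hw.1

end Small

end Groth.Agent.Fga.QA4Fin
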