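import Groth.Agent.Fga.QA4Rank
import Groth.Agent.Fga.QA2
import Mathlib.RingTheory.Nakayama

/-!
# QA4: generation in families
-/

set_option autoImplicit false

open MvPolynomial TensorProduct IsLocalRing

namespace Groth.Agent.Fga.QA4Gen

open QA0 QA1 QA4BC QA4Chart QA4Loc QA4Local QA4Retr QA4Main QA4Rank

section

variable {σ ι : Type*} {A : Type*} [CommRing A]

/-- `N ∩ I L = I N` if `L/N` is projective. -/
theorem mem_smul_top_of_projective {L : Type*} [AddCommGroup L] [Module A L] (I : Ideal A)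
    (N : Submodule A L) [Module.Projective A (L ⧸ N)] (n : N) (hn : (n : L) ∈ (I • ⊤ : Submodule A L)) :
    n ∈ (I • ⊤ : Submodule A N) := by
  obtain ⟨s, hs⟩ := Module.projective_lifting_property N.mkQ LinearMap.id (Submodule.mkQ_surjective _)
  let r : L →ₗ[A] N := LinearMap.codRestrict N (LinearMap.id - s ∘ₗ N.mkQ : L →ₗ[A] L) (by
    intro v
    have h := LinearMap.congr_fun hs (N.mkQ v)
    simp only [LinearMap.comp_apply, LinearMap.id_apply] at h
    rw [← Submodule.Quotient.mk_eq_zero, ← Submodule.mkQ_apply, LinearMap.sub_apply, map_sub,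
      LinearMap.comp_apply, h, LinearMap.id_apply, sub_self])
  have h1 : r n = n := by
    apply Subtype.ext
    change (n : L) - s (N.mkQ (n : L)) = n
    have : N.mkQ (n : L) = 0 := by
      rw [Submodule.mkQ_apply, Submodule.Quotient.mk_eq_zero]; exact n.2
    rw [this, map_zero, sub_zero]
  have h2 := Submodule.mem_map_of_mem (f := r) hn
  rw [Submodule.map_smul'', h1] at h2
  exact Submodule.smul_mono le_rfl le_top h2

/-- Nakayama. -/
theorem surjective_of_local [IsLocalRing A] {V L : Type*} [AddCommGroup V] [Module A V] [AddCommGroup L]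
    [Module A L] [Module.Finite A L] (f : V →ₗ[A] L)
    (h : ∀ n : L, ∃ v, n - f v ∈ (maximalIdeal A • ⊤ : Submodule A L)) : Function.Surjective f := by
  rw [← LinearMap.range_eq_top, ← top_le_iff]
  refine Submodule.le_of_le_smul_of_le_jacobson_bot (I := maximalIdeal A) Module.Finite.fg_top
    (IsLocalRing.maximalIdeal_le_jacobson ⊥) ?_
  intro n _
  obtain ⟨v, hv⟩ := h n
  rw [show n = f v + (n - f v) by abel]
  exact Submodule.add_mem_sup ⟨v, rfl⟩ hv

variable [Fintype σ]

/-- `(uᵢ) ↦ Σ Xᵢ uᵢ` on pieces. -/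
noncomputable def sMap (K : Submodule (MvPolynomial σ A) (W σ ι A)) (d : ℕ) :
    (σ → kd K d) →ₗ[A] kd K (d + 1) where
  toFun u := ⟨⟨∑ i, (X i : MvPolynomial σ A) • (u i : W σ ι A),
    Submodule.sum_mem _ fun i _ => X_smul_mem_Wd i (u i).1.2⟩,
    K.sum_mem fun i _ => K.smul_mem _ (u i).2⟩
  map_add' u v := by
    apply Subtype.ext
    apply Subtype.ext
    change ∑ i, (X i : MvPolynomial σ A) • ((u i : W σ ι A) + (v i : W σ ι A)) = _
    simp only [smul_add, Finset.sum_add_distrib]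
    rfl
  map_smul' a u := by
    apply Subtype.ext
    apply Subtype.ext
    change ∑ i, (X i : MvPolynomial σ A) • (a • (u i : W σ ι A)) = a • ∑ i, (X i : MvPolynomial σ A) • (u i : W σ ι A)
    rw [Finset.smul_sum]
    exact Finset.sum_congr rfl fun i _ => smul_comm _ _ _

lemma coe_sMap (K : Submodule (MvPolynomial σ A) (W σ ι A)) (d : ℕ) (u : σ → kd K d) :
    (sMap K d u : W σ ι A) = ∑ i, (X i : MvPolynomial σ A) • (u i : W σ ι A) := rfl

lemma gen_iff (K : Submodule (MvPolynomial σ A) (W σ ι A)) (d : ℕ) :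
    Gen K d ↔ Function.Surjective (sMap K d) := by
  constructor
  · intro h n
    obtain ⟨u, hu, hn⟩ := h n ⟨n.2, n.1.2⟩
    exact ⟨fun i => ⟨⟨u i, (hu i).2⟩, (hu i).1⟩, Subtype.ext (Subtype.ext hn.symm)⟩
  · intro h w hw
    obtain ⟨u, hu⟩ := h ⟨⟨w, hw.2⟩, hw.1⟩
    exact ⟨fun i => u i, fun i => ⟨(u i).2, (u i).1.2⟩,
      (congrArg (fun z : kd K (d + 1) => (z : W σ ι A)) hu).symm⟩

omit [Fintype σ] in
/-- If `A → B` is surjective then the pieces of `bc K` are the images of the pieces of `K`. -/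
theorem exists_of_mem_kd_bc {B : Type*} [CommRing B] [Algebra A B]
    (hφ : Function.Surjective (algebraMap A B)) {K : Submodule (MvPolynomial σ A) (W σ ι A)}
    (hK : IsHom K) (d : ℕ) (v : Wd σ ι B d) (hv : v ∈ kd (bc (algebraMap A B) K) d) :
    ∃ u : kd K d, mapWd σ ι A B d u = v := by
  rw [kd_bc hK] at hv
  induction hv using Submodule.span_induction with
  | mem x hx => obtain ⟨u, hu, rfl⟩ := hx; exact ⟨⟨u, hu⟩, rfl⟩
  | zero => exact ⟨0, map_zero _⟩
  | add x y _ _ hx hy =>
    obtain ⟨u, rfl⟩ := hx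
    obtain ⟨v, rfl⟩ := hy
    exact ⟨u + v, map_add _ _ _⟩
  | smul b x _ hx =>
    obtain ⟨u, rfl⟩ := hx
    obtain ⟨a, rfl⟩ := hφ b
    refine ⟨a • u, ?_⟩
    rw [Submodule.coe_smul, map_smul, algebraMap_smul]

/-- generation over a local ring. -/
theorem gen_local [Finite ι] [IsLocalRing A] [IsNoetherianRing A]
    {K : Submodule (MvPolynomial σ A) (W σ ι A)} (hK : IsHom K) {d : ℕ}
    (hproj : Module.Projective A (Md K (d + 1)))
    (hkd : kd (bcSat (algebraMap A (ResidueField A)) K) d = kd (bc (algebraMap A (ResidueField A)) K) d)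
    (hgen : Gen (bcSat (algebraMap A (ResidueField A)) K) d) : Gen K d := by
  rw [gen_iff]
  refine surjective_of_local (V := σ → kd K d) (L := kd K (d + 1)) (sMap K d) fun n => ?_
  let κ := ResidueField A
  obtain ⟨ub, hub, hn⟩ := hgen (mapW (algebraMap A κ) (n : W σ ι A))
    ⟨le_sat _ (mapW_mem_bc _ n.2), mapW_mem_Wd _ n.1.2⟩
  have h1 : ∀ i, ∃ u : kd K d, mapW (algebraMap A κ) (u : W σ ι A) = ub i := by
    intro i
    have h2 : (⟨ub i, (hub i).2⟩ : Wd σ ι κ d) ∈ kd (bc (algebraMap A κ) K) d := by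
      rw [← hkd]; exact (hub i).1
    obtain ⟨u, hu⟩ := exists_of_mem_kd_bc Ideal.Quotient.mk_surjective hK d _ h2
    exact ⟨u, congrArg Subtype.val hu⟩
  choose u hu using h1
  refine ⟨u, ?_⟩
  apply mem_smul_top_of_projective
  rw [← isBaseChange_eq_zero_iff (isBaseChange_mapWd (σ := σ) (ι := ι) (A := A)
    (B := ResidueField A) (d + 1))]
  apply Subtype.ext
  change mapW (algebraMap A κ) ((n : W σ ι A) - (sMap K d u : W σ ι A)) = 0
  rw [map_sub, coe_sMap, map_sum, hn, sub_eq_zero]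
  refine Finset.sum_congr rfl fun i _ => ?_
  rw [mapW_smul, map_X, hu]

omit [Fintype σ] in
/-- clearing denominators in a piece. -/
theorem exists_smul_eq_mapWd {A' : Type*} [CommRing A'] [Algebra A A'] (M : Submonoid A)
    [IsLocalization M A'] {K : Submodule (MvPolynomial σ A) (W σ ι A)}
    (hK : IsHom K) (d : ℕ) (v : Wd σ ι A' d) (hv : v ∈ kd (bc (algebraMap A A') K) d) :
    ∃ s ∈ M, ∃ u : kd K d, mapWd σ ι A A' d u = s • v := by
  rw [kd_bc hK] at hv
  induction hv using Submodule.span_induction with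
  | mem x hx =>
    obtain ⟨u, hu, rfl⟩ := hx
    exact ⟨1, M.one_mem, ⟨u, hu⟩, (one_smul _ _).symm⟩
  | zero => exact ⟨1, M.one_mem, 0, by rw [smul_zero]; exact map_zero _⟩
  | add x y _ _ hx hy =>
    obtain ⟨s, hs, u, hu⟩ := hx
    obtain ⟨t, ht, v, hv⟩ := hy
    refine ⟨s * t, M.mul_mem hs ht, t • u + s • v, ?_⟩
    rw [Submodule.coe_add, map_add, Submodule.coe_smul, Submodule.coe_smul, map_smul, map_smul, hu, hv,
      smul_add, mul_smul, smul_comm t s x, mul_smul]
  | smul b x _ hx =>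
    obtain ⟨s, hs, u, hu⟩ := hx
    obtain ⟨a, t, rfl⟩ := IsLocalization.exists_mk'_eq M b
    refine ⟨s * t, M.mul_mem hs t.2, a • u, ?_⟩
    have h1 : (t : A) • IsLocalization.mk' A' a t = algebraMap A A' a := by
      rw [Algebra.smul_def, mul_comm, IsLocalization.mk'_spec]
    rw [Submodule.coe_smul, map_smul, hu, mul_smul, ← smul_assoc (t : A), h1, algebraMap_smul,
      smul_comm]

/-- generation is local. -/
theorem gen_of_local {K : Submodule (MvPolynomial σ A) (W σ ι A)} (hK : IsHom K) {d : ℕ} [Finite ι]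
    (h : ∀ (P : Ideal A) [P.IsPrime], Gen (bc (algebraMap A (Localization.AtPrime P)) K) d) : Gen K d := by
  classical
  rw [gen_iff]
  intro n
  let I : Ideal A := (LinearMap.range (sMap K d)).comap (LinearMap.toSpanSingleton A _ n)
  have hI : ∀ a, a ∈ I ↔ a • n ∈ LinearMap.range (sMap K d) := fun a => Iff.rfl
  by_contra hn
  have hne : I ≠ ⊤ := by
    intro htop
    apply hn
    have : (1 : A) ∈ I := htop ▸ Submodule.mem_top
    rwa [hI, one_smul] at this
  obtain ⟨P, hP, hIP⟩ := Ideal.exists_le_maximal I hne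
  have hPp : P.IsPrime := hP.isPrime
  let A' := Localization.AtPrime P
  obtain ⟨ub, hub, hnb⟩ := h P (mapW (algebraMap A A') (n : W σ ι A))
    ⟨mapW_mem_bc _ n.2, mapW_mem_Wd _ n.1.2⟩
  choose s hs u hu using fun i => exists_smul_eq_mapWd (A' := A') P.primeCompl hK d ⟨ub i, (hub i).2⟩ (hub i).1
  -- common denominator
  let t : A := ∏ i, s i
  have ht : t ∈ P.primeCompl := Submonoid.prod_mem _ fun i _ => hs i
  let u' : σ → kd K d := fun i => (∏ j ∈ Finset.univ.erase i, s j) • u i
  have hu' : ∀ i, mapW (algebraMap A A') (u' i : W σ ι A) = algebraMap A A' t • ub i := by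
    intro i
    have h1 : mapW (algebraMap A A') (u i : W σ ι A) = s i • ub i := congrArg Subtype.val (hu i)
    change mapW (algebraMap A A') ((∏ j ∈ Finset.univ.erase i, s j) • (u i : W σ ι A)) = _
    rw [mapW_smul', h1, algebraMap_smul, algebraMap_smul, smul_smul,
      Finset.prod_erase_mul _ _ (Finset.mem_univ i)]
  have h2 : mapW (algebraMap A A') (t • (n : W σ ι A) - (sMap K d u' : W σ ι A)) = 0 := by
    rw [map_sub, mapW_smul', hnb, coe_sMap, map_sum, sub_eq_zero, Finset.smul_sum]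
    refine Finset.sum_congr rfl fun i _ => ?_
    rw [mapW_smul, map_X, hu', smul_comm]
  have h3 : mapW (algebraMap A A') (t • (n : W σ ι A) - (sMap K d u' : W σ ι A)) ∈
      bc (algebraMap A A') (⊥ : Submodule (MvPolynomial σ A) (W σ ι A)) := by
    rw [h2]; exact Submodule.zero_mem _
  obtain ⟨r, hr, hr'⟩ := (mapW_mem_bc_iff P.primeCompl _ _).mp h3
  rw [Submodule.mem_bot] at hr'
  have h4 : r * t ∈ I := by
    rw [hI]
    refine ⟨r • u', ?_⟩
    rw [map_smul]
    apply Subtype.ext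
    apply Subtype.ext
    change r • (sMap K d u' : W σ ι A) = (r * t) • (n : W σ ι A)
    rw [smul_sub, sub_eq_zero] at hr'
    rw [← hr', mul_smul]
  exact (P.primeCompl.mul_mem hr ht) (hIP h4)

end

end Groth.Agent.Fga.QA4Gen
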