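import Groth.Agent.Fga.QTDefs
import Groth.Agent.Sga67.IdealTorsion
import Groth.Agent.Flat2C.FlatSec
import Groth.Agent.FormalB.QcSect
import Groth.Agent.CohqB.FiniteType

/-!
# Quot task force (S3229), piece Q2b: the cokernel of a subobject with quasi-coherent cokernel

* `π_app_eq_zero_iff` : the kernel of `Γ(M, U) → Γ(coker K.arrow, U)` is `secSub K U` (any open `U`);
* `π_app_surjective` : surjectivity for `U` affine;
* `quotEquiv` : `Γ(M, U) ⧸ secSub K U ≃ₗ[Γ(Y, U)] Γ(coker K.arrow, U)` for `U` affine;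
* `isCoh_cokernel` : coherence of the cokernel;
* `isFlatOver_iff` : flatness of the cokernel over an affine base, on an affine cover.
-/

set_option autoImplicit false
universe u v

open CategoryTheory CategoryTheory.Limits AlgebraicGeometry Opposite

namespace Groth.Agent.Fga.QT2b

open QTDefs

variable {Y : Scheme.{u}} {M : Y.Modules}

/-- The kernel of `Γ(M, U) → Γ(coker K.arrow, U)` is `secSub K U`. -/
theorem π_app_eq_zero_iff (K : Subobject M) (U : Y.Opens) (s : Γ(M, U)) :
    (cokernel.π K.arrow).app U s = 0 ↔ s ∈ secSub K U := by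
  constructor
  · intro h
    obtain ⟨t, ht⟩ := Sga67.IdealTorsion.exists_kernel_ι (cokernel.π K.arrow) U s h
    let e := (Abelian.monoIsKernelOfCokernel (CokernelCofork.ofπ (cokernel.π K.arrow) (cokernel.condition _))
      (cokernelIsCokernel K.arrow)).conePointUniqueUpToIso (kernelIsKernel (cokernel.π K.arrow))
    have h2 : e.inv ≫ K.arrow = kernel.ι (cokernel.π K.arrow) :=
      IsLimit.conePointUniqueUpToIso_inv_comp _ _ WalkingParallelPair.zero
    refine ⟨e.inv.app U t, ?_⟩
    rw [← ht]
    exact congr((Scheme.Modules.Hom.app $h2 U) t)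
  · rintro ⟨t, rfl⟩
    exact congr((Scheme.Modules.Hom.app $(cokernel.condition K.arrow) U) t)

/-- Sections of the cokernel over an affine open lift. -/
theorem π_app_surjective (hM : Coh.IsQCoh M) {K : Subobject M} (hK : Coh.IsQCoh (cokernel K.arrow))
    {U : Y.Opens} (hU : IsAffineOpen U) : Function.Surjective ((cokernel.π K.arrow).app U) := by
  have h1 : M.IsQuasicoherent := hM
  have h2 : (cokernel K.arrow).IsQuasicoherent := hK
  exact FormalB.QcSect.surjective_app_of_epi (cokernel.π K.arrow) hU

/-- The map on sections, linear over `Γ(Y, U)`. -/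
noncomputable def πLin (K : Subobject M) (U : Y.Opens) : Γ(M, U) →ₗ[Γ(Y, U)] Γ(cokernel K.arrow, U) where
  toFun s := (cokernel.π K.arrow).app U s
  map_add' := map_add _
  map_smul' _ _ := Scheme.Modules.Hom.app_smul _ _ _

lemma πLin_apply (K : Subobject M) (U : Y.Opens) (s : Γ(M, U)) :
    πLin K U s = (cokernel.π K.arrow).app U s := rfl

theorem ker_πLin (K : Subobject M) (U : Y.Opens) : LinearMap.ker (πLin K U) = secSub K U := by
  ext s
  rw [LinearMap.mem_ker]
  exact π_app_eq_zero_iff K U s

/-- Sections of the cokernel over an affine open. -/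
noncomputable def quotEquiv (hM : Coh.IsQCoh M) {K : Subobject M} (hK : Coh.IsQCoh (cokernel K.arrow))
    {U : Y.Opens} (hU : IsAffineOpen U) : (Γ(M, U) ⧸ secSub K U) ≃ₗ[Γ(Y, U)] Γ(cokernel K.arrow, U) :=
  (Submodule.quotEquivOfEq _ _ (ker_πLin K U).symm).trans
    (LinearMap.quotKerEquivOfSurjective (πLin K U) (π_app_surjective hM hK hU))

lemma quotEquiv_mk (hM : Coh.IsQCoh M) {K : Subobject M} (hK : Coh.IsQCoh (cokernel K.arrow))
    {U : Y.Opens} (hU : IsAffineOpen U) (s : Γ(M, U)) :
    quotEquiv hM hK hU (Submodule.Quotient.mk s) = (cokernel.π K.arrow).app U s := rfl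

theorem isCoh_cokernel (hM : Coh.IsCoh M) {K : Subobject M} (hK : Coh.IsQCoh (cokernel K.arrow)) :
    Coh.IsCoh (cokernel K.arrow) :=
  ⟨hK, CohqB.FiniteType.IsFT.of_epi hM.2 (cokernel.π K.arrow)⟩

theorem flat_compHom_of_bijective {A B P : Type*} [CommRing A] [CommRing B] [AddCommGroup P] [i : Module B P]
    (φ : A →+* B) (hφ : Function.Bijective φ) (h : Module.Flat B P) :
    letI := Module.compHom P φ
    Module.Flat A P := by
  let _ : Algebra A B := φ.toAlgebra
  let _ : Module A P := Module.compHom P φ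
  have : IsScalarTower A B P := IsScalarTower.of_algebraMap_smul fun _ _ => rfl
  have h1 : Module.Flat A B := RingHom.Flat.of_bijective hφ
  exact Module.Flat.trans A B P

theorem flat_compHom_iff_of_bijective {A B P : Type*} [CommRing A] [CommRing B] [AddCommGroup P] [i : Module B P]
    (φ : A →+* B) (hφ : Function.Bijective φ) :
    Module.Flat B P ↔ (letI := Module.compHom P φ; Module.Flat A P) := by
  refine ⟨flat_compHom_of_bijective φ hφ, fun h => ?_⟩
  let e := RingEquiv.ofBijective φ hφ
  have h2 := @flat_compHom_of_bijective B A P _ _ _ (Module.compHom P φ) (e.symm : B →+* A) e.symm.bijective h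
  have h3 : @Module.compHom A B P _ _ (Module.compHom P φ) _ (e.symm : B →+* A) = i := by
    refine Module.ext' _ _ fun b p => ?_
    change φ (e.symm b) • p = b • p
    rw [show φ (e.symm b) = b from e.apply_symm_apply b]
  rw [h3] at h2
  exact h2

/-- Flatness over an affine base on sections over one affine open. -/
theorem flatSections_top_iff {A : Type u} [CommRing A] (q : Y ⟶ Spec (CommRingCat.of A)) (N : Y.Modules)
    {U : Y.Opens} (e : U ≤ q ⁻¹ᵁ ⊤) :
    Flat2C.FlatSec.FlatSections q N e ↔
      (letI := Module.compHom Γ(N, U) (coeff q U); Module.Flat A Γ(N, U)) := by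
  let _ : Module Γ(Spec (CommRingCat.of A), ⊤) Γ(N, U) := Flat2C.FlatSec.moduleOver q N e
  exact flat_compHom_iff_of_bijective (P := Γ(N, U)) (Scheme.ΓSpecIso (CommRingCat.of A)).inv.hom
    (ConcreteCategory.bijective_of_isIso (Scheme.ΓSpecIso (CommRingCat.of A)).inv)

/-- `Module.Flat` transports along a linear equivalence after restriction of scalars. -/
theorem flat_compHom_iff {A R : Type*} [CommRing A] [CommRing R] (f : A →+* R) {P Q : Type*} [AddCommGroup P]
    [AddCommGroup Q] [Module R P] [Module R Q] (e : P ≃ₗ[R] Q) :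
    (letI := Module.compHom P f; Module.Flat A P) ↔ (letI := Module.compHom Q f; Module.Flat A Q) := by
  let _ : Module A P := Module.compHom P f
  let _ : Module A Q := Module.compHom Q f
  let e' : P ≃ₗ[A] Q := { e with map_smul' := fun a x => e.map_smul (f a) x }
  exact Module.Flat.equiv_iff e'

theorem isFlatOver_iff (hM : Coh.IsQCoh M) {A : Type u} [CommRing A] (q : Y ⟶ Spec (CommRingCat.of A))
    {I : Type v} (V : I → Y.Opens) (hV : ∀ i, IsAffineOpen (V i)) (hc : ⨆ i, V i = ⊤)
    {K : Subobject M} (hK : Coh.IsQCoh (cokernel K.arrow)) :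
    FlatMod.IsFlatOver q (cokernel K.arrow) ↔
      ∀ i, letI := Module.compHom (Γ(M, V i) ⧸ secSub K (V i)) (coeff q (V i)); Module.Flat A (Γ(M, V i) ⧸ secSub K (V i)) := by
  have key : ∀ i, (∀ x ∈ V i, FlatMod.IsFlatOverAt q (cokernel K.arrow) x) ↔
      letI := Module.compHom (Γ(M, V i) ⧸ secSub K (V i)) (coeff q (V i)); Module.Flat A (Γ(M, V i) ⧸ secSub K (V i)) := by
    intro i
    have e : V i ≤ q ⁻¹ᵁ ⊤ := fun _ _ => trivial
    rw [← Flat2C.FlatSec.flat_sections_iff q (cokernel K.arrow) (hV i) (isAffineOpen_top _) e hK]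
    rw [flatSections_top_iff]
    exact (flat_compHom_iff (coeff q (V i)) (quotEquiv hM hK (hV i))).symm
  constructor
  · intro h i
    rw [← key i]
    exact fun x _ => h x
  · intro h x
    have hx : x ∈ (⨆ i, V i) := by rw [hc]; trivial
    obtain ⟨i, hi⟩ := TopologicalSpace.Opens.mem_iSup.mp hx
    exact (key i).mpr (h i) x hi

end Groth.Agent.Fga.QT2b
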