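import Groth.Agent.Fga.QT8Fib
import Groth.Agent.Fga.QT9Part
import Groth.Agent.Fga.QG5

/-!
# Quot task force (S3229), piece Q8: the fibrewise Hilbert function on the Quot functor

For the condition `QG5.QQ f g₀ F Φ` on field points of `QuotFun.quot f F`:
`disj` : uniqueness; `compat_of` : compatibility with a dictionary (`QG5.cov` : local constancy).
-/

set_option autoImplicit false
universe u v

open CategoryTheory CategoryTheory.Limits AlgebraicGeometry MvPolynomial Opposite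

namespace Groth.Agent.Fga.QT8

open QA0 QTDefs QT4 QT4b QT6a QT6c QG5 Picfga.OverRep NoethRep QuotFun QT9Part

variable {X S : Scheme.{u}} {n : ℕ} {f : X ⟶ S} {g₀ : X ⟶ PZ n} {F : X.Modules}

/-- (1) -/
theorem disj {c : ℕ} (Φ Φ' : ℤ → ℤ) (hΦ : QA1.Num c Φ) (hΦ' : QA1.Num c Φ') (k : Type u) [Field k]
    (s : Spec (.of k) ⟶ S) (y : (quot f F).obj (op (Over.mk s))) (h1 : QQ f g₀ F Φ k s y)
    (h2 : QQ f g₀ F Φ' k s y) : Φ = Φ' :=
  QHilb.unique hΦ hΦ' h1 h2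

/-- `Num` for the shifted function. -/
theorem num_shift {c : ℕ} {Φ : ℤ → ℤ} (hΦ : QA1.Num c Φ) (a : ℕ) : QA1.Num c (fun d => Φ (d + a)) :=
  (num_sh_iff a c Φ).2 hΦ

section Compat

variable [IsClosedImmersion (toPS g₀ f)]

/-- (2) compatibility with a dictionary over `j : S' ⟶ S` given by generating systems of twist `a`. -/
theorem compat_of (hF : Coh.IsQCoh F) {S' : Scheme.{u}} {j : S' ⟶ S} (𝒟 : Dict (restr j (quot f F)) n) (a : ℕ)
    (H : ∀ (k : Type u) [Field k] (s : Spec (.of k) ⟶ S'),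
      ∃ E : GenSys (gT f g₀ (Over.mk (s ≫ j))) (FGA.ET f F (Over.mk (s ≫ j))) 𝒟.ι a, E.Gen ∧
        ∀ y : FGA.QuotSet f F (Over.mk (s ≫ j)), 𝒟.L (.of k) s y = gr E y.1) (Φ : ℤ → ℤ) :
    𝒟.Compat (restrQ j (QQ f g₀ F Φ)) (fun d => Φ (d + a)) := by
  intro k _ s y
  obtain ⟨E, hE, hE'⟩ := H k s
  have h1 : ∀ y : FGA.QuotSet f F (Over.mk (s ≫ j)), QHilb f g₀ F Φ k (s ≫ j) y.1 ↔
      ∃ D : ℕ, ∀ d : ℕ, D ≤ d → QA1.h (𝒟.L (.of k) s y) d = Φ (d + a) := fun y => by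
    rw [qHilb_iff hF hE y.2.1.1 Φ, hE' y]
  exact h1 y

end Compat

end Groth.Agent.Fga.QT8
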