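import Groth.Agent.Fga.QuotFun

/-!
Superseded: the Quot functor and its Zariski sheaf property are in `Groth.Agent.Fga.QuotFun` (helper967).
-/
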