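import Groth.Agent.Fga.QTPull2
import Groth.Agent.Fga.QT1b

/-!
# Quot task force (S3229), part Q2c: the graded submodule of a pulled back subobject

* `isHom_grSub`, `isSat_grSub`: the graded submodule is homogeneous (and saturated as soon as `X_i / X_i = 1`).
* `grSub_pull`: the graded submodule of the image of `h^* K` in `h^* M ≅ N` is the saturated base change of that of `K`.
-/

set_option autoImplicit false
universe u v w

open CategoryTheory CategoryTheory.Limits AlgebraicGeometry Opposite MvPolynomial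

namespace Groth.Agent.Fga.QTPull

open QTDefs QA0 CohqA.BaseChangeMod CohqA.PullbackAffine CohqA.PullbackSections CohqA.PullbackQCoh

section

variable {n : ℕ} {Y : Scheme.{u}} {g : Y ⟶ PZ n} {A : Type u} [CommRing A] {q : Y ⟶ Spec (CommRingCat.of A)}
  {M : Y.Modules} {ι : Type v} [Fintype ι] {a : ℕ}

theorem grSub_eq_hmg (E : GenSys g M ι a) (K : Subobject M) :
    grSub g q E K = QT1.hmg (fun i => chart g q E i (secSub K (V g i))) := rfl

theorem isHom_grSub (E : GenSys g M ι a) (K : Subobject M) : IsHom (grSub g q E K) :=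
  QT1.isHom_hmg (fun i => chart g q E i (secSub K (V g i)))

theorem sub_one_smul_mem_chart (E : GenSys g M ι a) (i : Fin (n + 1)) (hself : y g i i = 1)
    (K : Submodule Γ(Y, V g i) Γ(M, V g i)) (w : W (Fin (n + 1)) ι A) :
    (X i - 1 : MvPolynomial (Fin (n + 1)) A) • w ∈ chart g q E i K := by
  rw [mem_chart, sg_smul, map_sub, ev_X, hself, map_one, sub_self, zero_smul]
  exact K.zero_mem

theorem isSat_grSub (E : GenSys g M ι a) (hself : ∀ i, y g i i = 1) (K : Subobject M) :
    IsSat (grSub g q E K) :=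
  QT1.isSat_hmg (L := fun i => chart g q E i (secSub K (V g i)))
    (fun i w => sub_one_smul_mem_chart E i (hself i) _ w)

end

section Pull

variable {n : ℕ} {Y Y' : Scheme.{u}} {g : Y ⟶ PZ n} {g' : Y' ⟶ PZ n} {h : Y' ⟶ Y} (hg : h ≫ g = g')
  {M : Y.Modules} {N : Y'.Modules} (e : (Scheme.Modules.pullback h).obj M ≅ N) {ι : Type v} [Fintype ι]
  {A A' : Type u} [CommRing A] [CommRing A'] {q : Y ⟶ Spec (CommRingCat.of A)}
  {q' : Y' ⟶ Spec (CommRingCat.of A')} {φ : A →+* A'}

/-- **The graded submodule of a pulled back subobject is the saturated base change.** -/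
theorem grSub_pull (H : IsPullback h q' q (Spec.map (CommRingCat.ofHom φ))) (hM : Coh.IsQCoh M) {a : ℕ}
    (E : GenSys g M ι a) (hV : ∀ i, IsAffineOpen (V g i)) (hV' : ∀ i, IsAffineOpen (V g' i))
    (hs : ∀ i, Function.Surjective (sg g q E i)) {K : Subobject M} (hK : Coh.IsQCoh (cokernel K.arrow))
    (hd : ∀ i, QT1.deh i (grSub g q E K) = chart g q E i (secSub K (V g i))) :
    grSub g' q' (pull E hg e) (imageSubobject ((Scheme.Modules.pullback h).map K.arrow ≫ e.hom)) =
      bcSat φ (grSub g q E K) := by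
  rw [grSub_eq_hmg]
  have h1 : ∀ i, chart g' q' (pull E hg e) i
      (secSub (imageSubobject ((Scheme.Modules.pullback h).map K.arrow ≫ e.hom)) (V g' i)) =
      QT1.deh i (bcSat φ (grSub g q E K)) := by
    intro i
    rw [QT1.deh_bcSat, hd i, secSub_pullback h hM (hV i) (hV' i) (V_le hg i) hK e]
    exact chart_pull hg e H hM E i (hV i) (hV' i) (hs i) (secSub K (V g i))
  rw [funext h1]
  exact QT1.hmg_deh ((isHom_grSub E K).bc φ).sat (isSat_sat _)

end Pull

end Groth.Agent.Fga.QTPull
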