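import Groth.Agent.Fga.QTPull3
import Groth.Agent.Flat2F.RepH0Desc

/-!
# Quot task force (S3229), part Q2c: composition of pull backs

* `pbSec_pbSec`, `pullSec_pullSec`, `pull_pull`: pulling back twice is pulling back along the composition, for arbitrary
  isomorphisms `e : h^* M ≅ N`, `e₂ : h₂^* N ≅ N₂`.
* `pullSec_cmp`, `pull_cmp`: the same for the canonical isomorphisms `h^* p^* F ≅ p'^* F` (`BCSec.cmp`), in particular
  for `FGA.ETiso` (`pull_ETiso`, `pullSec_ETiso`).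
* `pullSec_cmp_pbSec`, `pullSec_ETiso_comp_refl`: pulling back sections of `F` to `p^* F` and then to `p'^* F` is
  pulling back to `p'^* F`.
-/

set_option autoImplicit false
universe u v w

open CategoryTheory CategoryTheory.Limits AlgebraicGeometry Opposite MvPolynomial

namespace Groth.Agent.Fga.QTPull

open QTDefs QA0 CohqA.BaseChangeMod CohqA.PullbackAffine CohqA.PullbackSections CohqA.PullbackQCoh
open Groth.Agent.Flat2F.BCSec Groth.Agent.Flat2F.RepH0Desc Groth.Agent.VarietyB.PullSec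

theorem pbSec_eq_sec {X Y : Scheme.{u}} (h : Y ⟶ X) (M : X.Modules) (V : X.Opens) (V' : Y.Opens)
    (hVV : V' ≤ h ⁻¹ᵁ V) (x : Γ(M, V)) : pbSec h M V V' hVV x = sec h M hVV x := rfl

section Comp

variable {Y Y' Y'' : Scheme.{u}} {h : Y' ⟶ Y} {h₂ : Y'' ⟶ Y'} {M : Y.Modules}

theorem pbSec_pbSec {V : Y.Opens} {V' : Y'.Opens} {V'' : Y''.Opens} (hV : V' ≤ h ⁻¹ᵁ V) (hV' : V'' ≤ h₂ ⁻¹ᵁ V')
    (hV'' : V'' ≤ (h₂ ≫ h) ⁻¹ᵁ V) (x : Γ(M, V)) :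
    ((Scheme.Modules.pullbackComp h₂ h).hom.app M).app V''
      (pbSec h₂ ((Scheme.Modules.pullback h).obj M) V' V'' hV' (pbSec h M V V' hV x)) =
      pbSec (h₂ ≫ h) M V V'' hV'' x := by
  have h1 := tr_sec h₂ h (h₂ ≫ h) rfl M hV' hV hV'' x
  rw [tr_apply, cmp_rfl] at h1
  exact h1

theorem pbSec_pbSec' {V : Y.Opens} {V' : Y'.Opens} {V'' : Y''.Opens} (hV : V' ≤ h ⁻¹ᵁ V) (hV' : V'' ≤ h₂ ⁻¹ᵁ V')
    (hV'' : V'' ≤ (h₂ ≫ h) ⁻¹ᵁ V) (x : Γ(M, V)) :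
    pbSec h₂ ((Scheme.Modules.pullback h).obj M) V' V'' hV' (pbSec h M V V' hV x) =
      ((Scheme.Modules.pullbackComp h₂ h).inv.app M).app V'' (pbSec (h₂ ≫ h) M V V'' hV'' x) := by
  rw [← pbSec_pbSec hV hV' hV'' x]
  have h1 : (Scheme.Modules.pullbackComp h₂ h).hom.app M ≫ (Scheme.Modules.pullbackComp h₂ h).inv.app M = 𝟙 _ := by
    rw [← NatTrans.comp_app, Iso.hom_inv_id, NatTrans.id_app]
  have h2 := ConcreteCategory.congr_hom (congrArg (fun t => Scheme.Modules.Hom.app t V'') h1)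
    (pbSec h₂ ((Scheme.Modules.pullback h).obj M) V' V'' hV' (pbSec h M V V' hV x))
  exact h2.symm

variable {N : Y'.Modules} {N₂ : Y''.Modules} (e : (Scheme.Modules.pullback h).obj M ≅ N)
  (e₂ : (Scheme.Modules.pullback h₂).obj N ≅ N₂)

/-- The composed isomorphism `(h₂ ≫ h)^* M ≅ h₂^* h^* M ≅ h₂^* N ≅ N₂`. -/
noncomputable def compIso : (Scheme.Modules.pullback (h₂ ≫ h)).obj M ≅ N₂ :=
  ((Scheme.Modules.pullbackComp h₂ h).app M).symm ≪≫ (Scheme.Modules.pullback h₂).mapIso e ≪≫ e₂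

theorem pullSec_pullSec {V : Y.Opens} {V' : Y'.Opens} {V'' : Y''.Opens} (hV : V' ≤ h ⁻¹ᵁ V) (hV' : V'' ≤ h₂ ⁻¹ᵁ V')
    (hV'' : V'' ≤ (h₂ ≫ h) ⁻¹ᵁ V) (x : Γ(M, V)) :
    pullSec e₂ hV' (pullSec e hV x) = pullSec (compIso e e₂) hV'' x := by
  rw [pullSec_apply, pullSec_apply, ← pbSec_naturality h₂ e.hom, pbSec_pbSec' hV hV' hV'' x]
  rfl

variable {n : ℕ} {g : Y ⟶ PZ n} {g' : Y' ⟶ PZ n} {g'' : Y'' ⟶ PZ n} {ι : Type v}

theorem genSys_ext {a : ℕ} {E E' : GenSys g M ι a} (hE : ∀ i j, E.e i j = E'.e i j) : E = E' := by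
  cases E; cases E'
  congr
  funext i j
  exact hE i j

theorem pull_pull {a : ℕ} (E : GenSys g M ι a) (hg : h ≫ g = g') (hg' : h₂ ≫ g' = g'')
    (hg'' : (h₂ ≫ h) ≫ g = g'') :
    pull (pull E hg e) hg' e₂ = pull E hg'' (compIso e e₂) :=
  genSys_ext fun i j => by
    rw [pull_e, pull_e, pull_e]
    exact pullSec_pullSec e e₂ _ _ _ _

end Comp

section Cmp

variable {X Y Y' Y'' : Scheme.{u}} (h : Y' ⟶ Y) (h₂ : Y'' ⟶ Y') (h₃ : Y'' ⟶ Y) (hh : h₂ ≫ h = h₃)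
  (p : Y ⟶ X) (p' : Y' ⟶ X) (p'' : Y'' ⟶ X) (hp : h ≫ p = p') (hp' : h₂ ≫ p' = p'') (hp'' : h₃ ≫ p = p'')
  (F : X.Modules)

theorem tr_eq_pullSec {V : Y.Opens} {V' : Y'.Opens} (e : V' ≤ h ⁻¹ᵁ V)
    (s : Γ((Scheme.Modules.pullback p).obj F, V)) :
    tr h p p' hp F e s = pullSec (cmp h p p' hp F) e s := rfl

/-- Pulling back sections of `F` to `p^* F` and then to `p'^* F`. -/
theorem pullSec_cmp_pbSec {U : X.Opens} {V : Y.Opens} {V' : Y'.Opens} (hV : V ≤ p ⁻¹ᵁ U) (hV' : V' ≤ h ⁻¹ᵁ V)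
    (hU : V' ≤ p' ⁻¹ᵁ U) (x : Γ(F, U)) :
    pullSec (cmp h p p' hp F) hV' (pbSec p F U V hV x) = pbSec p' F U V' hU x :=
  tr_sec h p p' hp F hV' hV hU x

theorem pullSec_refl {M : Y.Modules} {V : Y.Opens} {V' : Y'.Opens} (hV : V' ≤ h ⁻¹ᵁ V) (x : Γ(M, V)) :
    pullSec (Iso.refl ((Scheme.Modules.pullback h).obj M)) hV x = pbSec h M V V' hV x := rfl

theorem pullSec_cmp_comp_refl {U : X.Opens} {V : Y.Opens} {V' : Y'.Opens} (hV : V ≤ p ⁻¹ᵁ U) (hV' : V' ≤ h ⁻¹ᵁ V)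
    (hU : V' ≤ p' ⁻¹ᵁ U) :
    (pullSec (cmp h p p' hp F) hV').comp (pullSec (Iso.refl ((Scheme.Modules.pullback p).obj F)) hV) =
      pullSec (Iso.refl ((Scheme.Modules.pullback p').obj F)) hU :=
  AddMonoidHom.ext fun x => by
    rw [AddMonoidHom.comp_apply, pullSec_refl, pullSec_refl]
    exact pullSec_cmp_pbSec h p p' hp F hV hV' hU x

include hh in
theorem pullSec_cmp {V : Y.Opens} {V' : Y'.Opens} {V'' : Y''.Opens} (hV : V' ≤ h ⁻¹ᵁ V) (hV' : V'' ≤ h₂ ⁻¹ᵁ V')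
    (hV'' : V'' ≤ h₃ ⁻¹ᵁ V) (x : Γ((Scheme.Modules.pullback p).obj F, V)) :
    pullSec (cmp h₂ p' p'' hp' F) hV' (pullSec (cmp h p p' hp F) hV x) =
      pullSec (cmp h₃ p p'' hp'' F) hV'' x := by
  have h1 := cmp_tr h₂ h p F (a' := h₃) (b := p') (b' := p'') hh hp hp'' hp' hV' (sec h _ hV x)
  rw [tr_sec h₂ h h₃ hh ((Scheme.Modules.pullback p).obj F) hV' hV hV'' x, tr_eq_pullSec] at h1
  rw [pullSec_apply (cmp h p p' hp F), pullSec_apply (cmp h₃ p p'' hp'' F), pbSec_eq_sec, pbSec_eq_sec]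
  exact h1.symm

include hh in
/-- `pullSec_cmp` as an equality of homomorphisms. -/
theorem pullSec_cmp_comp {V : Y.Opens} {V' : Y'.Opens} {V'' : Y''.Opens} (hV : V' ≤ h ⁻¹ᵁ V) (hV' : V'' ≤ h₂ ⁻¹ᵁ V')
    (hV'' : V'' ≤ h₃ ⁻¹ᵁ V) :
    (pullSec (cmp h₂ p' p'' hp' F) hV').comp (pullSec (cmp h p p' hp F) hV) =
      pullSec (cmp h₃ p p'' hp'' F) hV'' :=
  AddMonoidHom.ext fun x => pullSec_cmp h h₂ h₃ hh p p' p'' hp hp' hp'' F hV hV' hV'' x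

variable {n : ℕ} {g : Y ⟶ PZ n} {g' : Y' ⟶ PZ n} {g'' : Y'' ⟶ PZ n} {ι : Type v}

include hh in
theorem pull_cmp {a : ℕ} (E : GenSys g ((Scheme.Modules.pullback p).obj F) ι a) (hg : h ≫ g = g')
    (hg' : h₂ ≫ g' = g'') (hg'' : h₃ ≫ g = g'') :
    pull (pull E hg (cmp h p p' hp F)) hg' (cmp h₂ p' p'' hp' F) = pull E hg'' (cmp h₃ p p'' hp'' F) :=
  genSys_ext fun i j => by
    rw [pull_e, pull_e, pull_e]
    exact pullSec_cmp h h₂ h₃ hh p p' p'' hp hp' hp'' F _ _ _ _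

/-- Pulling back a system of sections of `F` to `p^* F`, then to `p'^* F`. -/
theorem pull_cmp_refl {g₀ : X ⟶ PZ n} {a : ℕ} (E : GenSys g₀ F ι a) (hg₀ : p ≫ g₀ = g) (hg : h ≫ g = g')
    (hg₀' : p' ≫ g₀ = g') :
    pull (pull E hg₀ (Iso.refl _)) hg (cmp h p p' hp F) = pull E hg₀' (Iso.refl _) :=
  genSys_ext fun i j => by
    rw [pull_e, pull_e, pull_e, pullSec_refl, pullSec_refl]
    exact pullSec_cmp_pbSec h p p' hp F _ _ _ _

end Cmp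

section ET

variable {X S : Scheme.{u}} (f : X ⟶ S) (F : X.Modules)

theorem ETiso_eq_cmp {T T' : Over S} (k : T' ⟶ T) :
    FGA.ETiso f F k = cmp (PicF.XTmap f k) (Limits.pullback.fst f T.hom) (Limits.pullback.fst f T'.hom)
      (FGA.XTmap_fst f k) F := rfl

theorem XTmap_comp {T T' T'' : Over S} (k : T' ⟶ T) (l : T'' ⟶ T') :
    PicF.XTmap f l ≫ PicF.XTmap f k = PicF.XTmap f (l ≫ k) := by
  simp only [PicF.XTmap, Limits.pullback.map_comp, Category.comp_id, Over.comp_left]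

/-- Pulling back along `ETiso` is transitive, on sections. -/
theorem pullSec_ETiso_comp {T T' T'' : Over S} (k : T' ⟶ T) (l : T'' ⟶ T') {V : (PicF.XT f T).Opens}
    {V' : (PicF.XT f T').Opens} {V'' : (PicF.XT f T'').Opens} (hV : V' ≤ (PicF.XTmap f k) ⁻¹ᵁ V)
    (hV' : V'' ≤ (PicF.XTmap f l) ⁻¹ᵁ V') (hV'' : V'' ≤ (PicF.XTmap f (l ≫ k)) ⁻¹ᵁ V) :
    (pullSec (FGA.ETiso f F l) hV').comp (pullSec (FGA.ETiso f F k) hV) = pullSec (FGA.ETiso f F (l ≫ k)) hV'' :=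
  pullSec_cmp_comp _ _ _ (XTmap_comp f k l) _ _ _ (FGA.XTmap_fst f k) (FGA.XTmap_fst f l)
    (FGA.XTmap_fst f (l ≫ k)) F hV hV' hV''

/-- Pulling back along `ETiso` is transitive, on sections. -/
theorem pullSec_ETiso {T T' T'' : Over S} (k : T' ⟶ T) (l : T'' ⟶ T') {V : (PicF.XT f T).Opens}
    {V' : (PicF.XT f T').Opens} {V'' : (PicF.XT f T'').Opens} (hV : V' ≤ (PicF.XTmap f k) ⁻¹ᵁ V)
    (hV' : V'' ≤ (PicF.XTmap f l) ⁻¹ᵁ V') (hV'' : V'' ≤ (PicF.XTmap f (l ≫ k)) ⁻¹ᵁ V)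
    (x : Γ(FGA.ET f F T, V)) :
    pullSec (FGA.ETiso f F l) hV' (pullSec (FGA.ETiso f F k) hV x) = pullSec (FGA.ETiso f F (l ≫ k)) hV'' x := by
  rw [← AddMonoidHom.comp_apply, pullSec_ETiso_comp]

/-- Sections of `F` pulled back to `E_T` and then to `E_{T'}`. -/
theorem pullSec_ETiso_comp_refl {T T' : Over S} (k : T' ⟶ T) {U : X.Opens} {V : (PicF.XT f T).Opens}
    {V' : (PicF.XT f T').Opens} (hV : V ≤ (Limits.pullback.fst f T.hom) ⁻¹ᵁ U)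
    (hV' : V' ≤ (PicF.XTmap f k) ⁻¹ᵁ V) (hU : V' ≤ (Limits.pullback.fst f T'.hom) ⁻¹ᵁ U) :
    (pullSec (FGA.ETiso f F k) hV').comp (pullSec (Iso.refl (FGA.ET f F T)) hV) =
      pullSec (Iso.refl (FGA.ET f F T')) hU :=
  pullSec_cmp_comp_refl _ _ _ (FGA.XTmap_fst f k) F hV hV' hU

variable {n : ℕ} {ι : Type v}

/-- **Transitivity of the pull back of generating systems along `ETiso`.** -/
theorem pull_ETiso {T T' T'' : Over S} (k : T' ⟶ T) (l : T'' ⟶ T') {g : PicF.XT f T ⟶ PZ n}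
    {g' : PicF.XT f T' ⟶ PZ n} {g'' : PicF.XT f T'' ⟶ PZ n} {a : ℕ} (E : GenSys g (FGA.ET f F T) ι a)
    (hg : PicF.XTmap f k ≫ g = g') (hg' : PicF.XTmap f l ≫ g' = g'') (hg'' : PicF.XTmap f (l ≫ k) ≫ g = g'') :
    pull (pull E hg (FGA.ETiso f F k)) hg' (FGA.ETiso f F l) = pull E hg'' (FGA.ETiso f F (l ≫ k)) := by
  rw [ETiso_eq_cmp, ETiso_eq_cmp, ETiso_eq_cmp]
  exact pull_cmp _ _ _ (XTmap_comp f k l) _ _ _ (FGA.XTmap_fst f k) (FGA.XTmap_fst f l)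
    (FGA.XTmap_fst f (l ≫ k)) F E hg hg' hg''

/-- The system of `E_{T'}` attached to a system of `F` is the pull back of the system of `E_T`. -/
theorem pull_ETiso_refl {T T' : Over S} (k : T' ⟶ T) {g₀ : X ⟶ PZ n} {g : PicF.XT f T ⟶ PZ n}
    {g' : PicF.XT f T' ⟶ PZ n} {a : ℕ} (E : GenSys g₀ F ι a) (hg₀ : Limits.pullback.fst f T.hom ≫ g₀ = g)
    (hg : PicF.XTmap f k ≫ g = g') (hg₀' : Limits.pullback.fst f T'.hom ≫ g₀ = g') :
    pull (pull E hg₀ (Iso.refl _)) hg (FGA.ETiso f F k) = pull E hg₀' (Iso.refl _) := by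
  rw [ETiso_eq_cmp]
  exact pull_cmp_refl _ _ _ (FGA.XTmap_fst f k) F E hg₀ hg hg₀'

end ET

end Groth.Agent.Fga.QTPull
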