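import Groth.Agent.Fga.QT2
import Groth.Agent.Fga.QTPull1
import Groth.Agent.Flat2F.BCSec
import Groth.Agent.Fdesc.FlatBC
import Groth.Agent.CycB.StalkExact
import Groth.Agent.FormalA.PullbackQC

/-!
# Pullback of subobjects of `a^* E` along `k : W' ⟶ W`

For `k : W' ⟶ W`, `a : W ⟶ X`, `a' : W' ⟶ X` with `k ≫ a = a'` and `K ≤ a^* E`, `pull k a a' h E K ≤ a'^* E` is the
image of `k^* K` in `k^* a^* E ≅ a'^* E`.

* `cokIso` : its cokernel is `k^*` of the cokernel of `K`; consequences for quasi-coherence, coherence, flatness;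
* `secSub_pull` : sections over affine opens;
* `pull_id`, `pull_comp`.
-/

set_option autoImplicit false
set_option linter.style.haveILetI false
universe u v

open CategoryTheory CategoryTheory.Limits AlgebraicGeometry Opposite TopologicalSpace

namespace Groth.Agent.Fga.QTSub

open Groth.Agent.Fga.QTDefs Groth.Agent.Fga.QT2 Groth.Agent.Flat2F.BCSec Groth.Agent.VarietyB.PullSec

variable {X W W' W'' : Scheme.{u}}

section Def

variable (k : W' ⟶ W) (a : W ⟶ X) (a' : W' ⟶ X) (h : k ≫ a = a') (E : X.Modules)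

/-- The image of `k^* K` in `a'^* E`. -/
noncomputable def pull (K : Subobject ((Scheme.Modules.pullback a).obj E)) :
    Subobject ((Scheme.Modules.pullback a').obj E) :=
  imageSubobject ((Scheme.Modules.pullback k).map K.arrow ≫ (cmp k a a' h E).hom)

/-- the cokernel of the image is the cokernel of the map -/
noncomputable def cokImage {M N : W.Modules} (g : M ⟶ N) :
    cokernel (imageSubobject g).arrow ≅ cokernel g :=
  (cokernelEpiComp (factorThruImageSubobject g) (imageSubobject g).arrow).symm ≪≫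
    cokernelIsoOfEq (imageSubobject_arrow_comp g)

/-- The cokernel of the pulled back subobject is the pullback of the cokernel. -/
noncomputable def cokIso (K : Subobject ((Scheme.Modules.pullback a).obj E)) :
    cokernel (pull k a a' h E K).arrow ≅ (Scheme.Modules.pullback k).obj (cokernel K.arrow) :=
  cokImage _ ≪≫ cokernelCompIsIso _ _ ≪≫ (PreservesCokernel.iso (Scheme.Modules.pullback k) K.arrow).symm

theorem isQCoh_pull {K : Subobject ((Scheme.Modules.pullback a).obj E)} (hK : Coh.IsQCoh (cokernel K.arrow)) :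
    Coh.IsQCoh (cokernel (pull k a a' h E K).arrow) :=
  PerfA.QCohSerre.isQCoh_of_iso (cokIso k a a' h E K).symm
    (FormalA.PullbackQC.isQCoh_pullback k _ hK)

theorem isCoh_of_iso {M N : W.Modules} (e : M ≅ N) (hM : Coh.IsCoh M) : Coh.IsCoh N :=
  ⟨PerfA.QCohSerre.isQCoh_of_iso e hM.1, CohqB.FiniteType.IsFT.of_epi hM.2 e.hom⟩

theorem isCoh_pull {K : Subobject ((Scheme.Modules.pullback a).obj E)} (hK : Coh.IsCoh (cokernel K.arrow)) :
    Coh.IsCoh (cokernel (pull k a a' h E K).arrow) :=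
  isCoh_of_iso (cokIso k a a' h E K).symm (FormalA.PullbackQC.isCoh_pullback k _ hK)

theorem isFlatOver_of_iso {T : Scheme.{u}} (q : W ⟶ T) {M N : W.Modules} (e : M ≅ N)
    (hM : FlatMod.IsFlatOver q M) : FlatMod.IsFlatOver q N := by
  intro x
  letI := Fdesc.PullbackStalk.stalkAlg q x
  letI := FlatMod.moduleStalkOver q M x
  haveI := Fdesc.PullbackStalk.isScalarTower q M x
  letI := FlatMod.moduleStalkOver q N x
  haveI := Fdesc.PullbackStalk.isScalarTower q N x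
  haveI : Module.Flat (T.presheaf.stalk (q.base x)) (M.presheaf.stalk x) := hM x
  exact Module.Flat.of_linearEquiv
    (((CycB.StalkExact.stalkLinEquiv e x).symm).restrictScalars (T.presheaf.stalk (q.base x)))

theorem isFlatOver_pull {T T' : Scheme.{u}} {q' : W' ⟶ T'} {q : W ⟶ T} {g : T' ⟶ T} (H : IsPullback k q' q g)
    {K : Subobject ((Scheme.Modules.pullback a).obj E)} (hK : FlatMod.IsFlatOver q (cokernel K.arrow)) :
    FlatMod.IsFlatOver q' (cokernel (pull k a a' h E K).arrow) :=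
  isFlatOver_of_iso _ (cokIso k a a' h E K).symm
    fun z => Fdesc.FlatBC.isFlatOverAt_pullback H _ z (hK _)

/-- Sections of the pulled back subobject over affine opens. -/
theorem secSub_pull (hE : Coh.IsQCoh E) {K : Subobject ((Scheme.Modules.pullback a).obj E)}
    (hK : Coh.IsQCoh (cokernel K.arrow)) {U : W.Opens} (hU : IsAffineOpen U) {V : W'.Opens} (hV : IsAffineOpen V)
    (e : V ≤ k ⁻¹ᵁ U) :
    secSub (pull k a a' h E K) V = Submodule.span Γ(W', V) (tr k a a' h E e '' (secSub K U : Set _)) :=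
  QTPull.secSub_pullback k (FormalA.PullbackQC.isQCoh_pullback a _ hE) hU hV e hK (cmp k a a' h E)

end Def

/-- `Γ(a^* E, V)` is generated by pullbacks of sections of `E`. -/
theorem span_sec (a : W ⟶ X) {E : X.Modules} (hE : Coh.IsQCoh E) {U₀ : X.Opens} (hU₀ : IsAffineOpen U₀) {U : W.Opens}
    (hU : IsAffineOpen U) (e : U ≤ a ⁻¹ᵁ U₀) :
    Submodule.span Γ(W, U) (Set.range (sec a E e)) = ⊤ := by
  have : E.IsQuasicoherent := hE
  have h1 := CohqA.PullbackQCoh.isBC_pbSec a E hU₀ hU e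
  have h2 : (Submodule.span Γ(W, U) (Set.range (sec a E e))).mkQ = 0 := h1.hom_ext fun x => by
    rw [LinearMap.zero_apply, Submodule.mkQ_apply, Submodule.Quotient.mk_eq_zero]
    exact Submodule.subset_span ⟨x, rfl⟩
  rw [eq_top_iff]
  intro x _
  have h3 := LinearMap.congr_fun h2 x
  rwa [Submodule.mkQ_apply, LinearMap.zero_apply, Submodule.Quotient.mk_eq_zero] at h3

theorem tr_comp (k' : W'' ⟶ W') (k : W' ⟶ W) (a : W ⟶ X) (a' : W' ⟶ X) (a'' : W'' ⟶ X) (h : k ≫ a = a')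
    (h' : k' ≫ a' = a'') (h'' : (k' ≫ k) ≫ a = a'') {E : X.Modules} (hE : Coh.IsQCoh E)
    {U : W.Opens} {U' : W'.Opens} {U'' : W''.Opens} (e : U' ≤ k ⁻¹ᵁ U) (e' : U'' ≤ k' ⁻¹ᵁ U')
    (e'' : U'' ≤ (k' ≫ k) ⁻¹ᵁ U) (s : Γ((Scheme.Modules.pullback a).obj E, U)) :
    tr k' a' a'' h' E e' (tr k a a' h E e s) = tr (k' ≫ k) a a'' h'' E e'' s := by
  -- locally
  refine Ega1.SubSheaf.section_ext _ _ _ fun w hw => ?_
  obtain ⟨U₀, V, hU₀, hV, hwV, hVU⟩ := CohqA.PullbackQCoh.exists_affine_pair a ((k' ≫ k) w)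
  obtain ⟨_, ⟨V1, hV1, rfl⟩, hwV1, hV1le⟩ := W.isBasis_affineOpens.exists_subset_of_mem_open
    (show (k' ≫ k) w ∈ (V ⊓ U : W.Opens) from ⟨hwV, e'' hw⟩) (V ⊓ U).isOpen
  have hV1V : V1 ≤ V := fun x hx => (hV1le hx).1
  have hV1U : V1 ≤ U := fun x hx => (hV1le hx).2
  refine ⟨(k' ≫ k) ⁻¹ᵁ V1 ⊓ U'', inf_le_right, ⟨hwV1, hw⟩, ?_⟩
  have e1 : (k' ≫ k) ⁻¹ᵁ V1 ⊓ U'' ≤ k' ⁻¹ᵁ (k ⁻¹ᵁ V1 ⊓ U') := fun x hx => ⟨hx.1, e' hx.2⟩
  have h1 : Ega1.SubSheaf.res _ inf_le_right (tr k' a' a'' h' E e' (tr k a a' h E e s)) =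
      tr k' a' a'' h' E e1 (tr k a a' h E (inf_le_left : k ⁻¹ᵁ V1 ⊓ U' ≤ k ⁻¹ᵁ V1) (Ega1.SubSheaf.res _ hV1U s)) := by
    have h2 := tr_res k a a' h E (inf_le_left : k ⁻¹ᵁ V1 ⊓ U' ≤ k ⁻¹ᵁ V1) hV1U s
    have h3 := res_tr k a a' h E e (inf_le_right : k ⁻¹ᵁ V1 ⊓ U' ≤ U') s
    refine Eq.trans ?_ (congrArg (tr k' a' a'' h' E e1) (h3.trans h2.symm))
    refine (res_tr k' a' a'' h' E e' _ _).trans ?_
    exact (tr_res k' a' a'' h' E e1 inf_le_right _).symm
  have h2 : Ega1.SubSheaf.res _ inf_le_right (tr (k' ≫ k) a a'' h'' E e'' s) =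
      tr (k' ≫ k) a a'' h'' E (inf_le_left : (k' ≫ k) ⁻¹ᵁ V1 ⊓ U'' ≤ (k' ≫ k) ⁻¹ᵁ V1) (Ega1.SubSheaf.res _ hV1U s) :=
    (res_tr (k' ≫ k) a a'' h'' E e'' _ _).trans (tr_res (k' ≫ k) a a'' h'' E inf_le_left hV1U s).symm
  rw [h1, h2]
  -- on the affine `V1`
  have hspan := span_sec a hE hU₀ hV1 (hV1V.trans hVU)
  have hmem : Ega1.SubSheaf.res _ hV1U s ∈ Submodule.span Γ(W, V1) (Set.range (sec a E (hV1V.trans hVU))) := by
    rw [hspan]; trivial
  generalize Ega1.SubSheaf.res ((Scheme.Modules.pullback a).obj E) hV1U s = t at hmem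
  induction hmem using Submodule.span_induction with
  | mem x hx =>
    obtain ⟨r, rfl⟩ := hx
    have e2 : k ⁻¹ᵁ V1 ⊓ U' ≤ a' ⁻¹ᵁ U₀ := by
      rintro x ⟨hx, -⟩
      have : a (k x) ∈ U₀ := hVU (hV1V hx)
      subst h
      exact this
    have e3 : (k' ≫ k) ⁻¹ᵁ V1 ⊓ U'' ≤ a'' ⁻¹ᵁ U₀ := by
      rintro x ⟨hx, -⟩
      have : a ((k' ≫ k) x) ∈ U₀ := hVU (hV1V hx)
      subst h''
      exact this
    rw [tr_sec k a a' h E _ _ e2, tr_sec k' a' a'' h' E _ _ e3, tr_sec (k' ≫ k) a a'' h'' E _ _ e3]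
  | zero => simp only [map_zero]
  | add x y _ _ hx hy => simp only [map_add, hx, hy]
  | smul c x _ hx =>
    rw [tr_smul, tr_smul, tr_smul, hx]
    congr 1
    rw [← CommRingCat.comp_apply, Scheme.Hom.appLE_comp_appLE]

/-- pull back along the identity. -/
theorem tr_id (k : W ⟶ W) (hk : k = 𝟙 W) (a : W ⟶ X) (h : k ≫ a = a) {E : X.Modules} (hE : Coh.IsQCoh E)
    {U U' : W.Opens} (e : U' ≤ k ⁻¹ᵁ U) (e' : U' ≤ U) (s : Γ((Scheme.Modules.pullback a).obj E, U)) :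
    tr k a a h E e s = Ega1.SubSheaf.res _ e' s := by
  subst hk
  refine Ega1.SubSheaf.section_ext _ _ _ fun w hw => ?_
  obtain ⟨U₀, V, hU₀, hV, hwV, hVU⟩ := CohqA.PullbackQCoh.exists_affine_pair a w
  obtain ⟨_, ⟨V1, hV1, rfl⟩, hwV1, hV1le⟩ := W.isBasis_affineOpens.exists_subset_of_mem_open
    (show w ∈ (V ⊓ U : W.Opens) from ⟨hwV, e' hw⟩) (V ⊓ U).isOpen
  have hV1V : V1 ≤ V := fun x hx => (hV1le hx).1
  have hV1U : V1 ≤ U := fun x hx => (hV1le hx).2
  refine ⟨V1 ⊓ U', inf_le_right, ⟨hwV1, hw⟩, ?_⟩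
  have e1 : V1 ⊓ U' ≤ (𝟙 W) ⁻¹ᵁ V1 := inf_le_left
  have h1 : Ega1.SubSheaf.res _ inf_le_right (tr (𝟙 W) a a h E e s) =
      tr (𝟙 W) a a h E e1 (Ega1.SubSheaf.res _ hV1U s) :=
    (res_tr (𝟙 W) a a h E e _ _).trans (tr_res (𝟙 W) a a h E e1 hV1U s).symm
  have h2 : Ega1.SubSheaf.res _ (inf_le_right : V1 ⊓ U' ≤ U') (Ega1.SubSheaf.res _ e' s) =
      Ega1.SubSheaf.res _ (inf_le_left : V1 ⊓ U' ≤ V1) (Ega1.SubSheaf.res _ hV1U s) := by
    rw [Ega1.SubSheaf.res_res, Ega1.SubSheaf.res_res]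
  rw [h1, h2]
  have hspan := span_sec a hE hU₀ hV1 (hV1V.trans hVU)
  have hmem : Ega1.SubSheaf.res _ hV1U s ∈ Submodule.span Γ(W, V1) (Set.range (sec a E (hV1V.trans hVU))) := by
    rw [hspan]; trivial
  generalize Ega1.SubSheaf.res ((Scheme.Modules.pullback a).obj E) hV1U s = t at hmem
  induction hmem using Submodule.span_induction with
  | mem x hx =>
    obtain ⟨r, rfl⟩ := hx
    rw [tr_sec (𝟙 W) a a h E _ _ (inf_le_left.trans (hV1V.trans hVU))]
    exact (res_sec a E _ _ _).symm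
  | zero => rw [map_zero, map_zero]
  | add x y _ _ hx hy => rw [map_add, map_add, hx, hy]
  | smul c x _ hx =>
    rw [tr_smul, hx, Ega1.SubSheaf.res_smul]
    congr 1

theorem pull_id (k : W ⟶ W) (hk : k = 𝟙 W) (a : W ⟶ X) (h : k ≫ a = a) {E : X.Modules} (hE : Coh.IsQCoh E)
    {K : Subobject ((Scheme.Modules.pullback a).obj E)} (hK : Coh.IsQCoh (cokernel K.arrow)) :
    pull k a a h E K = K := by
  refine (ext_iff (FormalA.PullbackQC.isQCoh_pullback a _ hE) (fun V : W.affineOpens => V.1) (fun V => V.2)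
    (iSup_affineOpens_eq_top W) (isQCoh_pull k a a h E hK) hK).mpr fun V => ?_
  have e : V.1 ≤ k ⁻¹ᵁ V.1 := by subst hk; exact le_rfl
  rw [secSub_pull k a a h E hE hK V.2 V.2 e]
  have h1 : tr k a a h E e '' (secSub K V.1 : Set _) = (secSub K V.1 : Set _) := by
    ext s
    constructor
    · rintro ⟨t, ht, rfl⟩
      rw [tr_id k hk a h hE e le_rfl, Ega1.SubSheaf.res_self]
      exact ht
    · intro hs
      exact ⟨s, hs, by rw [tr_id k hk a h hE e le_rfl, Ega1.SubSheaf.res_self]⟩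
  rw [h1, Submodule.span_eq]

/-- `span (φ-semilinear image of a span)`. -/
theorem span_image_span {A B : Type*} [CommRing A] [CommRing B] {M N : Type*} [AddCommGroup M] [Module A M]
    [AddCommGroup N] [Module B N] (φ : A →+* B) (f : M →+ N) (hf : ∀ r x, f (r • x) = φ r • f x) (s : Set M) :
    Submodule.span B (f '' (Submodule.span A s : Set M)) = Submodule.span B (f '' s) := by
  apply le_antisymm
  · rw [Submodule.span_le]
    rintro _ ⟨x, hx, rfl⟩
    induction hx using Submodule.span_induction with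
    | mem x hx => exact Submodule.subset_span ⟨x, hx, rfl⟩
    | zero => rw [map_zero]; exact Submodule.zero_mem _
    | add x y _ _ hx hy => rw [map_add]; exact Submodule.add_mem _ hx hy
    | smul c x _ hx => rw [hf]; exact Submodule.smul_mem _ _ hx
  · exact Submodule.span_mono (Set.image_mono Submodule.subset_span)

theorem pull_comp (k' : W'' ⟶ W') (k : W' ⟶ W) (k'' : W'' ⟶ W) (hk : k' ≫ k = k'') (a : W ⟶ X) (a' : W' ⟶ X)
    (a'' : W'' ⟶ X) (h : k ≫ a = a') (h' : k' ≫ a' = a'') (h'' : k'' ≫ a = a'') {E : X.Modules} (hE : Coh.IsQCoh E)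
    {K : Subobject ((Scheme.Modules.pullback a).obj E)} (hK : Coh.IsQCoh (cokernel K.arrow)) :
    pull k'' a a'' h'' E K = pull k' a' a'' h' E (pull k a a' h E K) := by
  subst hk
  choose U V hU hV hxV hVU using CohqA.PullbackQCoh.exists_affine_pair (k' ≫ k)
  have hex : ∀ x : W'', ∃ (V : W'.Opens) (V' : W''.Opens), IsAffineOpen V ∧ IsAffineOpen V' ∧ x ∈ V' ∧
      V ≤ k ⁻¹ᵁ (U x) ∧ V' ≤ k' ⁻¹ᵁ V := by
    intro x
    obtain ⟨_, ⟨V1, hV1, rfl⟩, hxV1, hV1le⟩ := W'.isBasis_affineOpens.exists_subset_of_mem_open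
      (show k' x ∈ (k ⁻¹ᵁ (U x) : W'.Opens) from hVU x (hxV x)) (k ⁻¹ᵁ (U x)).isOpen
    obtain ⟨_, ⟨V2, hV2, rfl⟩, hxV2, hV2le⟩ := W''.isBasis_affineOpens.exists_subset_of_mem_open
      (show x ∈ (k' ⁻¹ᵁ V1 : W''.Opens) from hxV1) (k' ⁻¹ᵁ V1).isOpen
    exact ⟨V1, V2, hV1, hV2, hxV2, hV1le, hV2le⟩
  choose V1 V2 hV1 hV2 hxV2 hVU1 hVU2 using hex
  have hK1 := isQCoh_pull k a a' h E hK
  refine (ext_iff (FormalA.PullbackQC.isQCoh_pullback a'' _ hE) V2 hV2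
    (top_le_iff.1 fun y _ => Opens.mem_iSup.2 ⟨y, hxV2 y⟩) (isQCoh_pull _ a a'' h'' E hK)
    (isQCoh_pull k' a' a'' h' E hK1)).mpr fun x => ?_
  have e'' : V2 x ≤ (k' ≫ k) ⁻¹ᵁ U x := fun y hy => hVU1 x (hVU2 x hy)
  rw [secSub_pull (k' ≫ k) a a'' h'' E hE hK (hU x) (hV2 x) e'',
    secSub_pull k' a' a'' h' E hE hK1 (hV1 x) (hV2 x) (hVU2 x),
    secSub_pull k a a' h E hE hK (hU x) (hV1 x) (hVU1 x),
    span_image_span (k'.appLE (V1 x) (V2 x) (hVU2 x)).hom (tr k' a' a'' h' E (hVU2 x))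
      (fun r y => tr_smul k' a' a'' h' E (hVU2 x) r y), Set.image_image]
  congr 1
  refine Set.image_congr fun s _ => ?_
  exact (tr_comp k' k a a' a'' h h' h'' hE _ _ _ _).symm

end Groth.Agent.Fga.QTSub
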